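import Mathlib
import Cfsg.Prelude.Def_EvenType
import Cfsg.Agent.SignalizersComponents.Components
import Cfsg.Agent.SignalizersComponents.PCompCore
import Cfsg.Agent.Schreier.Basic
import Cfsg.Agent.SignalizersComponents.CharP
import Cfsg.Agent.S0007
import Cfsg.Agent.Lib.GenFitting
import Cfsg.Agent.TwoFusion.FStarControl
import Cfsg.Agent.S0003
import Cfsg.Agent.S0664
import Cfsg.Agent.S0665
import Cfsg.Agent.Lib.Cores
import Cfsg.Agent.Lib.Involves
import Cfsg.Agent.PLocal.QdSection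
import Cfsg.Agent.PLocal.ThompsonJA
import Cfsg.Agent.SignalizersComponents.SLQuasisimple
import Cfsg.Agent.SignalizersComponents.ComponentExists
import Cfsg.Agent.T44.Spor.Act
import Cfsg.Agent.H231.Rel
import Cfsg.Agent.PLocal.SubnormalCore
import Cfsg.Agent.S0144
import Cfsg.Agent.DS.Cl.Main
import Cfsg.Agent.H508.AltHom
import Cfsg.Agent.FastGrp
import Cfsg.Agent.Prune
set_option linter.all false

section
prune_inst 0x7ffcfefbaff8bddeffff7e7ffffddffe39d4dfffffdfff4bfffdfbffffff236f3be5fbaf1df4d8ffdef6e2beb0b87813f97ec23fef6bdc7ffffd5ff45ffbee1ff7ffbfad71d6bc341ffe6ffffbf17fdfffffffffffffffffffffffffffffffffffffffffffff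

-- part: R2/T3544/Fun
section
prune_inst 0x20000000000010000018000000001c4292000002000b00000040000004810c4120010e20b260021011100064003e804812440009001800002000820041180080040020c29008b00001000040e802000000000000000000000000000000000000000000000
set_option linter.all false
open scoped Cfsg.Agent.FastGrp

-- part: R2/T3544/Comp
section
/-!
# Components of subgroups, in the ambient group (S3544)
-/

set_option autoImplicit false
set_option linter.unusedSectionVars false

namespace Cfsg.Agent.R2.T3544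

open Subgroup Cfsg
open Cfsg.Agent.SignalizersComponents.Components

variable {G : Type*} [Group G]

/-! ### Subnormal subgroups of subgroups -/

/-- `N ≤ A` and `N` is subnormal in `A`. -/
def SubnIn (N A : Subgroup G) : Prop := N ≤ A ∧ (N.subgroupOf A).IsSubnormal

theorem SubnIn.le {N A : Subgroup G} (h : SubnIn N A) : N ≤ A := h.1

theorem SubnIn.refl (A : Subgroup G) : SubnIn A A := by
  refine ⟨le_rfl, ?_⟩
  rw [subgroupOf_self]
  exact IsSubnormal.top

theorem SubnIn.of_normal {N A : Subgroup G} (h : N ≤ A) (hn : A ≤ normalizer (N : Set G)) : SubnIn N A :=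
  ⟨h, Normal.isSubnormal (by rw [normal_subgroupOf_iff_le_normalizer h]; exact hn)⟩

/-- intersecting with a subgroup -/
theorem SubnIn.inf {N A : Subgroup G} (h : SubnIn N A) (B : Subgroup G) : SubnIn (N ⊓ B) (A ⊓ B) := by
  refine ⟨inf_le_inf_right _ h.1, ?_⟩
  have h1 := h.2.comap (Subgroup.inclusion (inf_le_left : A ⊓ B ≤ A))
  have e : (N.subgroupOf A).comap (Subgroup.inclusion (inf_le_left : A ⊓ B ≤ A)) =
      (N ⊓ B).subgroupOf (A ⊓ B) := by
    ext x
    simp only [mem_comap, mem_subgroupOf, mem_inf, coe_inclusion]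
    exact ⟨fun h2 => ⟨h2, x.2.2⟩, fun h2 => h2.1⟩
  rwa [e] at h1

theorem SubnIn.mono {N A B : Subgroup G} (h : SubnIn N A) (hNB : N ≤ B) (hBA : B ≤ A) : SubnIn N B := by
  have h1 := h.inf B
  rwa [inf_eq_left.2 hNB, inf_eq_right.2 hBA] at h1

theorem SubnIn.trans {N M A : Subgroup G} (h : SubnIn N M) (h' : SubnIn M A) : SubnIn N A := by
  refine ⟨h.1.trans h'.1, ?_⟩
  have h1 : (M.subgroupOf A).IsSubnormal := h'.2
  let e : M ≃* M.subgroupOf A := (subgroupOfEquivOfLe h'.1).symm
  have h2 := (h.2.map (f := e.toMonoidHom) e.surjective).trans' h1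
  convert h2 using 1
  ext x
  constructor
  · intro hx
    refine ⟨⟨x, h.1 hx⟩, ⟨⟨x, h.1 hx⟩, hx, rfl⟩, rfl⟩
  · rintro ⟨_, ⟨y, hy, rfl⟩, rfl⟩
    exact hy

theorem SubnIn.conj {N A : Subgroup G} (h : SubnIn N A) (g : G) :
    SubnIn (N.map (MulAut.conj g).toMonoidHom) (A.map (MulAut.conj g).toMonoidHom) := by
  refine ⟨map_mono h.1, ?_⟩
  let e : A ≃* A.map (MulAut.conj g).toMonoidHom :=
    A.equivMapOfInjective (MulAut.conj g).toMonoidHom (MulAut.conj g).injective
  have h2 := h.2.map (f := e.toMonoidHom) e.surjective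
  convert h2 using 1
  ext x
  constructor
  · intro hx
    obtain ⟨y, hy, hyx⟩ := mem_subgroupOf.1 hx
    exact ⟨⟨y, h.1 hy⟩, hy, Subtype.ext hyx⟩
  · rintro ⟨y, hy, rfl⟩
    exact ⟨y, hy, rfl⟩

/-- `|N : N ∩ D|` divides `|A : A ∩ D|` for `N` subnormal in `A` -/
theorem SubnIn.relIndex_dvd [Finite G] {N A : Subgroup G} (h : SubnIn N A) (D : Subgroup G) :
    D.relIndex N ∣ D.relIndex A := by
  have h1 := SignalizersComponents.PCompCore.relIndex_dvd_index_of_subnormal (D.subgroupOf A) h.2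
  rwa [relIndex_subgroupOf h.1] at h1

/-! ### Components -/

theorem isComponentOf_iff {K A : Subgroup G} : IsComponentOf K A ↔ SubnIn K A ∧ IsQuasisimple K := by
  constructor
  · rintro ⟨h1, h2⟩
    exact ⟨⟨h1, h2.1⟩, isQuasisimple_of_mulEquiv (subgroupOfEquivOfLe h1) h2.2⟩
  · rintro ⟨h1, h2⟩
    exact ⟨h1.1, h1.2, isQuasisimple_of_mulEquiv (subgroupOfEquivOfLe h1.1).symm h2⟩

theorem CompOf.subn {K A : Subgroup G} (h : IsComponentOf K A) : SubnIn K A := (isComponentOf_iff.1 h).1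

theorem CompOf.conj {K A : Subgroup G} (h : IsComponentOf K A) (g : G) :
    IsComponentOf (K.map (MulAut.conj g).toMonoidHom) (A.map (MulAut.conj g).toMonoidHom) := by
  rw [isComponentOf_iff] at h ⊢
  refine ⟨h.1.conj g, isQuasisimple_of_mulEquiv ?_ h.2⟩
  exact K.equivMapOfInjective (MulAut.conj g).toMonoidHom (MulAut.conj g).injective

theorem CompOf.mono {K A B : Subgroup G} (h : IsComponentOf K A) (h1 : K ≤ B) (h2 : B ≤ A) :
    IsComponentOf K B := by
  rw [isComponentOf_iff] at h ⊢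
  exact ⟨h.1.mono h1 h2, h.2⟩

theorem CompOf.trans {K A B : Subgroup G} (h : IsComponentOf K B) (h1 : SubnIn B A) :
    IsComponentOf K A := by
  rw [isComponentOf_iff] at h ⊢
  exact ⟨h.1.trans h1, h.2⟩

theorem commutator_subgroupOf_eq_bot {K L A : Subgroup G} (hK : K ≤ A) (hL : L ≤ A) :
    ⁅K.subgroupOf A, L.subgroupOf A⁆ = ⊥ ↔ ⁅K, L⁆ = ⊥ := by
  rw [← map_eq_bot_iff_of_injective _ A.subtype_injective, map_commutator,
    map_subgroupOf_eq_of_le hK, map_subgroupOf_eq_of_le hL]

theorem CompOf.le_or_comm {K N A : Subgroup G} (h : IsComponentOf K A) (hN : SubnIn N A) :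
    K ≤ N ∨ ⁅K, N⁆ = ⊥ := by
  rcases component_le_or_commutator_eq_bot h.2 hN.2 with h1 | h1
  · left
    intro x hx
    exact mem_subgroupOf.1 (h1 (x := ⟨x, h.1 hx⟩) (mem_subgroupOf.2 hx))
  · right
    exact (commutator_subgroupOf_eq_bot h.1 hN.1).1 h1

theorem CompOf.comm_of_ne {K L A : Subgroup G} (h : IsComponentOf K A) (h' : IsComponentOf L A)
    (hne : K ≠ L) : ⁅K, L⁆ = ⊥ := by
  rcases CompOf.le_or_comm h (CompOf.subn h') with h1 | h1
  · rcases CompOf.le_or_comm h' (CompOf.subn h) with h2 | h2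
    · exact absurd (le_antisymm h1 h2) hne
    · rwa [commutator_comm]
  · exact h1

theorem CompOf.ne_bot {K A : Subgroup G} (h : IsComponentOf K A) : K ≠ ⊥ := by
  rintro rfl
  have := quasisimple_nontrivial (isComponentOf_iff.1 h).2
  exact not_nontrivial _ this

/-- If the Fitting subgroup is trivial, components are simple. -/
theorem component_simple {G : Type*} [Group G] [Finite G] (hF : fittingSubgroup G = ⊥)
    {L : Subgroup G} (hL : IsComponent L) : IsSimpleGroup L := by
  have h1 : ((center L).map L.subtype).IsSubnormal := by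
    have h2 : (center L).IsSubnormal := Subgroup.Normal.isSubnormal inferInstance
    exact h2.trans' hL.1
  have h2 : Group.IsNilpotent ((center L).map L.subtype : Subgroup G) := by
    have : Group.IsNilpotent (center L) := by
      let : CommGroup (center L) :=
        { (inferInstance : Group (center L)) with
          mul_comm := fun a b => Subtype.ext (mem_center_iff.1 b.2 a) }
      exact CommGroup.isNilpotent
    exact Group.nilpotent_of_mulEquiv ((center L).equivMapOfInjective L.subtype L.subtype_injective)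
  have h3 := SignalizersComponents.CharP.subnormal_nilpotent_le_fitting h1 h2
  rw [hF, le_bot_iff, Subgroup.map_eq_bot_iff_of_injective _ L.subtype_injective] at h3
  have h4 := hL.2.2
  have e : (L ⧸ center L) ≃* L :=
    (QuotientGroup.quotientMulEquivOfEq h3).trans QuotientGroup.quotientBot
  exact (MulEquiv.isSimpleGroup_congr e).mp h4

/-- components of a group with trivial Fitting subgroup are simple -/
theorem CompOf.simple [Finite G] {K A : Subgroup G} (hF : fittingSubgroup A = ⊥) (h : IsComponentOf K A) :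
    IsSimpleGroup K := by
  have h1 := component_simple hF h.2
  exact (MulEquiv.isSimpleGroup_congr (subgroupOfEquivOfLe h.1)).mp h1

theorem CompOf.noncomm {K A : Subgroup G} (h : IsComponentOf K A) : ¬ IsMulCommutative K :=
  quasisimple_not_isMulCommutative (isComponentOf_iff.1 h).2

end Cfsg.Agent.R2.T3544
end

-- part: R2/T3544/Inner
section
/-!
# A simple subnormal subgroup acting on a component (S3544)
-/

set_option autoImplicit false
set_option linter.unusedSectionVars false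

namespace Cfsg.Agent.R2.T3544

open Subgroup Cfsg
open scoped commutatorElement
open Cfsg.Agent.SignalizersComponents.Components

variable {G : Type*} [Group G]

/-- a subgroup meeting `D` trivially and normalising it: its order divides the index of `D` -/
theorem card_dvd_index [Finite G] {E D : Subgroup G} (hn : E ≤ normalizer (D : Set G)) (h : D ⊓ E = ⊥) :
    Nat.card E ∣ D.index := by
  set N := normalizer (D : Set G) with hN
  have hDN : D ≤ N := le_normalizer
  have hnor : (D.subgroupOf N).Normal := normal_subgroupOf_of_le_normalizer le_rfl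
  have h1 := relIndex_dvd_index_of_normal (D.subgroupOf N) (E.subgroupOf N)
  rw [relIndex_subgroupOf hn] at h1
  have h2 : D.relIndex E = Nat.card E := by
    rw [← inf_relIndex_right, h, relIndex_bot_left]
  rw [h2] at h1
  refine h1.trans ?_
  rw [← relIndex_mul_index hDN, relIndex]
  exact Dvd.intro _ rfl

/-- A simple nonabelian group `S` normalising the simple group `T`, not centralising `T` but centralising `D ≤ T`:
`|S|` divides `|T : D|`. -/
theorem card_dvd_of_normalizes [Finite G] {S T D : Subgroup G} (hSs : IsSimpleGroup S)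
    (hSn : ¬ IsMulCommutative S) (hTs : IsSimpleGroup T) (hTn : ¬ IsMulCommutative T)
    (hSch : Schreier.Basic.Sch T) (hST : S ≤ normalizer (T : Set G)) (hne : ⁅S, T⁆ ≠ ⊥)
    (hDT : D ≤ T) (hD : ⁅S, D⁆ = ⊥) : Nat.card S ∣ D.relIndex T := by
  -- the action
  let φ : S →* MulAut T := T.normalizerMonoidHom.comp (inclusion hST)
  have hφ : ∀ (s : S) (t : T), ((φ s t : T) : G) = s * t * (s : G)⁻¹ := fun s t => rfl
  have hinj : Function.Injective φ := by
    rw [← MonoidHom.ker_eq_bot_iff]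
    rcases hSs.eq_bot_or_eq_top_of_normal φ.ker inferInstance with h | h
    · exact h
    · exfalso
      apply hne
      rw [commutator_eq_bot_iff_le_centralizer]
      intro s hs
      rw [mem_centralizer_iff]
      intro t ht
      have h1 : φ ⟨s, hs⟩ = 1 := by
        rw [← MonoidHom.mem_ker, h]
        trivial
      have h2 := hφ ⟨s, hs⟩ ⟨t, ht⟩
      rw [h1] at h2
      have h3 : t = s * t * s⁻¹ := h2
      calc t * s = s * t * s⁻¹ * s := by rw [← h3]
        _ = s * t := by group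
  -- conj on `T` is injective
  have hZ : center T = ⊥ := by
    rcases hTs.eq_bot_or_eq_top_of_normal (center T) inferInstance with h | h
    · exact h
    · exfalso
      apply hTn
      rw [isMulCommutative_iff]
      intro a b
      have : a ∈ center T := by rw [h]; trivial
      exact (mem_center_iff.1 this b).symm
  have hconj : Function.Injective (MulAut.conj : T →* MulAut T) := by
    rw [← MonoidHom.ker_eq_bot_iff, eq_bot_iff]
    intro t ht
    rw [MonoidHom.mem_ker] at ht
    rw [← hZ, mem_center_iff]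
    intro u
    have h1 : t * u * t⁻¹ = u := by
      have := congrArg (fun f : MulAut T => f u) ht
      simpa using this
    calc u * t = t * u * t⁻¹ * t := by rw [h1]
      _ = t * u := by group
  have hSperf : ⁅(⊤ : Subgroup S), (⊤ : Subgroup S)⁆ = ⊤ := by
    rcases hSs.eq_bot_or_eq_top_of_normal ⁅(⊤ : Subgroup S), (⊤ : Subgroup S)⁆ inferInstance with h | h
    · exfalso
      apply hSn
      rw [isMulCommutative_iff]
      intro a b
      have h1 : ⁅a, b⁆ ∈ ⁅(⊤ : Subgroup S), (⊤ : Subgroup S)⁆ := commutator_mem_commutator trivial trivial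
      rw [h, mem_bot, commutatorElement_eq_one_iff_mul_comm] at h1
      exact h1
    · exact h
  have hC : ⁅φ.range, φ.range⁆ = φ.range := by
    rw [MonoidHom.range_eq_map, ← map_commutator, hSperf]
  have hinn := hSch _ hC
  -- the subgroup of `T` inducing the same automorphisms
  let E : Subgroup T := φ.range.comap (MulAut.conj : T →* MulAut T)
  have hEmap : E.map (MulAut.conj : T →* MulAut T) = φ.range := by
    rw [map_comap_eq, inf_eq_right]
    exact hinn
  have hcard : Nat.card E = Nat.card S := by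
    rw [← card_map_of_injective hconj, hEmap]
    exact Nat.card_congr (MonoidHom.ofInjective hinj).toEquiv.symm
  have hcomm : ∀ e ∈ E, ∀ d ∈ D.subgroupOf T, e * d = d * e := by
    intro e he d hd
    obtain ⟨s, hs⟩ := he
    have h1 : ((φ s d : T) : G) = s * d * (s : G)⁻¹ := hφ s d
    have h2 : (s : G) * d = d * s := by
      have h3 : ⁅(s : G), (d : G)⁆ ∈ ⁅S, D⁆ := commutator_mem_commutator s.2 (mem_subgroupOf.1 hd)
      rw [hD, mem_bot, commutatorElement_eq_one_iff_mul_comm] at h3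
      exact h3
    rw [h2, mul_inv_cancel_right] at h1
    have h4 : φ s d = d := Subtype.ext h1
    rw [hs] at h4
    have h5 : e * d * e⁻¹ = d := h4
    calc e * d = e * d * e⁻¹ * e := by group
      _ = d * e := by rw [h5]
  have hED : D.subgroupOf T ⊓ E = ⊥ := by
    rw [eq_bot_iff]
    rintro z ⟨hz1, hz2⟩
    obtain ⟨s, hs⟩ : ∃ s, φ s = MulAut.conj z := hz2
    -- `s` is central in `S`
    have h1 : s ∈ center S := by
      rw [mem_center_iff]
      intro u
      obtain ⟨e, he⟩ : ∃ e : T, MulAut.conj e = φ u := hinn ⟨u, rfl⟩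
      have heE : e ∈ E := ⟨u, he.symm⟩
      apply hinj
      rw [map_mul, map_mul, hs, ← he, ← map_mul, ← map_mul, hcomm e heE z hz1]
    have h2 : center S = ⊥ := by
      rcases hSs.eq_bot_or_eq_top_of_normal (center S) inferInstance with h | h
      · exact h
      · exfalso
        apply hSn
        rw [isMulCommutative_iff]
        intro a b
        have : a ∈ center S := by rw [h]; trivial
        exact (mem_center_iff.1 this b).symm
    rw [h2, mem_bot] at h1
    rw [h1, map_one] at hs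
    rw [mem_bot]
    apply hconj
    rw [map_one, ← hs]
  have hn : E ≤ normalizer ((D.subgroupOf T : Subgroup T) : Set T) := by
    refine le_trans ?_ (centralizer_le_normalizer _)
    intro e he
    rw [mem_centralizer_iff]
    intro d hd
    exact (hcomm e he d hd).symm
  have := card_dvd_index hn hED
  rwa [hcard] at this

/-- `S` moves `T` and centralises `D`: `D = 1`. -/
theorem eq_bot_of_moves {S T D : Subgroup G} (hDT : D ≤ T) (hD : ⁅S, D⁆ = ⊥) {s : G} (hs : s ∈ S)
    (hcomm : ⁅T, T.map (MulAut.conj s).toMonoidHom⁆ = ⊥) (hZ : T ⊓ centralizer (T : Set G) = ⊥) : D = ⊥ := by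
  rw [eq_bot_iff]
  intro d hd
  rw [← hZ]
  refine ⟨hDT hd, ?_⟩
  have h1 : s * d * s⁻¹ = d := by
    have h3 : ⁅s, d⁆ ∈ ⁅S, D⁆ := commutator_mem_commutator hs hd
    rw [hD, mem_bot, commutatorElement_eq_one_iff_mul_comm] at h3
    rw [h3]
    group
  have h2 : d ∈ T.map (MulAut.conj s).toMonoidHom := ⟨d, hDT hd, h1⟩
  rw [commutator_comm, commutator_eq_bot_iff_le_centralizer] at hcomm
  exact hcomm h2

theorem inf_centralizer_eq_bot {T : Subgroup G} (hTs : IsSimpleGroup T) (hTn : ¬ IsMulCommutative T) :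
    T ⊓ centralizer (T : Set G) = ⊥ := by
  rcases hTs.eq_bot_or_eq_top_of_normal (center T) inferInstance with h | h
  · rw [eq_bot_iff]
    rintro x ⟨hx1, hx2⟩
    have h1 : (⟨x, hx1⟩ : T) ∈ center T := by
      rw [mem_center_iff]
      intro y
      exact Subtype.ext (mem_centralizer_iff.1 hx2 y y.2)
    rw [h, mem_bot] at h1
    exact congrArg Subtype.val h1
  · exfalso
    apply hTn
    rw [isMulCommutative_iff]
    intro a b
    have : a ∈ center T := by rw [h]; trivial
    exact (mem_center_iff.1 this b).symm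

/-- **INNER LEMMA.** `S` a simple component of `A`, contained in `B`, `T` a simple component of `B`, `[S, T] ≠ 1`.
Then `S ≤ T`, or `|T|` or `|S|` divides `|B : A ∩ B|`. -/
theorem inner [Finite G] {A B S T : Subgroup G} (hS : IsComponentOf S A) (hSB : S ≤ B)
    (hT : IsComponentOf T B) (hSs : IsSimpleGroup S) (hTs : IsSimpleGroup T) (hSch : Schreier.Basic.Sch T)
    (hne : ⁅S, T⁆ ≠ ⊥) :
    S ≤ T ⊓ A ∨ (¬ S ≤ normalizer (T : Set G) ∧ Nat.card T ∣ A.relIndex B) ∨ Nat.card S ∣ A.relIndex B := by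
  have h1 : IsComponentOf S (B ⊓ A) := CompOf.mono hS (le_inf hSB hS.1) inf_le_right
  have h2 : SubnIn (T ⊓ A) (B ⊓ A) := (CompOf.subn hT).inf A
  have h3 : A.relIndex T ∣ A.relIndex B := (CompOf.subn hT).relIndex_dvd A
  rcases CompOf.le_or_comm h1 h2 with h4 | h4
  · exact Or.inl h4
  · right
    by_cases hn : S ≤ normalizer (T : Set G)
    · right
      have h5 := card_dvd_of_normalizes hSs (CompOf.noncomm hS) hTs (CompOf.noncomm hT) hSch hn hne
        (inf_le_left : T ⊓ A ≤ T) h4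
      rw [inf_relIndex_left] at h5
      exact h5.trans h3
    · left
      refine ⟨hn, ?_⟩
      obtain ⟨s, hs, hsn⟩ : ∃ s ∈ S, T.map (MulAut.conj s).toMonoidHom ≠ T := by
        by_contra hc
        push Not at hc
        apply hn
        intro s hs
        rw [mem_normalizer_iff]
        intro x
        constructor
        · intro hx
          have : s * x * s⁻¹ ∈ T.map (MulAut.conj s).toMonoidHom := ⟨x, hx, rfl⟩
          rwa [hc s hs] at this
        · intro hx
          have : s⁻¹ * (s * x * s⁻¹) * s⁻¹⁻¹ ∈ T.map (MulAut.conj s⁻¹).toMonoidHom := ⟨_, hx, rfl⟩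
          rw [hc _ (inv_mem hs)] at this
          have e : s⁻¹ * (s * x * s⁻¹) * s⁻¹⁻¹ = x := by group
          rwa [e] at this
      have hTs' : IsComponentOf (T.map (MulAut.conj s).toMonoidHom) B := by
        have h6 := CompOf.conj hT s
        have h7 : B.map (MulAut.conj s).toMonoidHom = B := by
          apply le_antisymm
          · rintro _ ⟨y, hy, rfl⟩
            exact B.mul_mem (B.mul_mem (hSB hs) hy) (B.inv_mem (hSB hs))
          · intro y hy
            refine ⟨s⁻¹ * y * s, B.mul_mem (B.mul_mem (B.inv_mem (hSB hs)) hy) (hSB hs), ?_⟩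
            show s * (s⁻¹ * y * s) * s⁻¹ = y
            group
        rwa [h7] at h6
      have h8 := CompOf.comm_of_ne hT hTs' (Ne.symm hsn)
      have h9 := eq_bot_of_moves (inf_le_left : T ⊓ A ≤ T) h4 hs h8
        (inf_centralizer_eq_bot hTs (CompOf.noncomm hT))
      have h10 : A.relIndex T = Nat.card T := by
        rw [← inf_relIndex_right, inf_comm, h9, relIndex_bot_left]
      rwa [h10] at h3

end Cfsg.Agent.R2.T3544
end

-- part: R2/T3544/Sys
section
/-!
# The setting of S3544: points, property (P), directions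

`PP G Ω`: transitive action, and `N_G(X) ≤ G_x` for each nontrivial `X` normal in `G_x`.
`Dir G r d`: a symmetric `G`-invariant relation with `|G_x : G_xy| = d > 1` for `r x y`
(in the application `r` is an orbital together with its paired orbital).
-/

set_option autoImplicit false

namespace Cfsg.Agent.R2.T3544

open Subgroup MulAction

/-- transitivity and property (P) -/
structure PP (G : Type*) [Group G] (Ω : Type*) [MulAction G Ω] : Prop where
  trans : ∀ x y : Ω, ∃ g : G, g • x = y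
  norm : ∀ (x : Ω) (X : Subgroup G), X ≤ stabilizer G x → X ≠ ⊥ →
    stabilizer G x ≤ normalizer (X : Set G) → normalizer (X : Set G) ≤ stabilizer G x

/-- a direction: a symmetric invariant relation of valency type `d` -/
structure Dir (G : Type*) [Group G] {Ω : Type*} [MulAction G Ω] (r : Ω → Ω → Prop) (d : ℕ) : Prop where
  symm : ∀ {x y : Ω}, r x y → r y x
  smul : ∀ (g : G) {x y : Ω}, r x y → r (g • x) (g • y)
  idx : ∀ {x y : Ω}, r x y → (stabilizer G y).relIndex (stabilizer G x) = d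
  ex : ∀ x : Ω, ∃ y, r x y
  one_lt : 1 < d

end Cfsg.Agent.R2.T3544
end

-- part: R2/T3544/QLem
section
/-!
# S3544: factorizations with coprime indices and subnormal subgroups (helper7)

`exists_sub_of_subn`: `T` finite simple, `A`, `C` of coprime indices, `C ≠ T`, `1 ≠ K` subnormal in `A`; then `K` has a
proper subgroup whose index divides `|T : C|`.
-/

set_option autoImplicit false

namespace Cfsg.Agent.R2.T3544

open Subgroup

/-- `|A : A ∩ C|` divides `|T : C|` if the indices of `A` and `C` are coprime. -/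
theorem relIndex_dvd_of_coprime {T : Type*} [Group T] [Finite T] {A C : Subgroup T}
    (hcop : A.index.Coprime C.index) : C.relIndex A ∣ C.index := by
  have h1 : (C ⊓ A).relIndex A * A.index = (C ⊓ A).index := relIndex_mul_index inf_le_right
  rw [inf_relIndex_right] at h1
  have h2 : C.index ∣ (C ⊓ A).index := index_dvd_of_le inf_le_left
  rw [← h1] at h2
  have h3 : C.index ∣ C.relIndex A := hcop.symm.dvd_of_dvd_mul_right h2
  have h4 : C.relIndex A ≤ C.index := by
    rw [← relIndex_top_right C]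
    exact relIndex_le_of_le_right le_top (by rw [relIndex_top_right]; exact C.index_ne_zero_of_finite)
  have h5 : C.relIndex A ≠ 0 := by
    rw [relIndex]
    exact index_ne_zero_of_finite
  rw [Nat.le_antisymm h4 (Nat.le_of_dvd (Nat.pos_of_ne_zero h5) h3)]

theorem exists_sub_of_subn_aux {T : Type*} [Group T] [Finite T] [IsSimpleGroup T] {A C K : Subgroup T}
    (hC : C ≠ ⊤) (hcop : A.index.Coprime C.index) (hKA : K ≤ A) (hK : (K.subgroupOf A).IsSubnormal) (hK1 : K ≠ ⊥) :
    ∃ C' : Subgroup K, C' ≠ ⊤ ∧ C'.index ∣ C.index := by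
  have key : ∀ t : T, (C.map (MulAut.conj t).toMonoidHom).relIndex K ∣ C.index := by
    intro t
    have hi : (C.map (MulAut.conj t).toMonoidHom).index = C.index :=
      index_map_of_bijective (MulAut.conj t).bijective C
    have h1 : (C.map (MulAut.conj t).toMonoidHom).relIndex A ∣ C.index := by
      have h := relIndex_dvd_of_coprime (A := A) (C := C.map (MulAut.conj t).toMonoidHom) (by rw [hi]; exact hcop)
      rwa [hi] at h
    have h2 := SignalizersComponents.PCompCore.relIndex_dvd_index_of_subnormal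
      ((C.map (MulAut.conj t).toMonoidHom).subgroupOf A) hK
    rw [relIndex_subgroupOf hKA] at h2
    exact h2.trans h1
  by_cases hall : ∀ t : T, K ≤ C.map (MulAut.conj t).toMonoidHom
  · exfalso
    apply hC
    have h1 : normalClosure (K : Set T) ≤ C := by
      rw [normalClosure, closure_le]
      intro x hx
      obtain ⟨k, hk, hx⟩ := Group.mem_conjugatesOfSet_iff.1 hx
      obtain ⟨t, rfl⟩ := isConj_iff.1 hx
      obtain ⟨c, hc, hck⟩ := hall t⁻¹ hk
      have h2 : t⁻¹ * c * t⁻¹⁻¹ = k := hck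
      have h3 : t * k * t⁻¹ = c := by rw [← h2]; group
      rw [h3]
      exact hc
    have h2 : normalClosure (K : Set T) = ⊤ := by
      rcases (normalClosure_normal (s := (K : Set T))).eq_bot_or_eq_top with h | h
      · exfalso
        apply hK1
        rw [eq_bot_iff, ← h]
        exact subset_normalClosure
      · exact h
    rw [h2] at h1
    exact top_le_iff.1 h1
  · push Not at hall
    obtain ⟨t, ht⟩ := hall
    refine ⟨(C.map (MulAut.conj t).toMonoidHom).subgroupOf K, ?_, key t⟩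
    intro h
    exact ht (subgroupOf_eq_top.1 h)

/-- **Lemma (Q)** -/
theorem exists_sub_of_subn {T : Type*} [Group T] [Finite T] [IsSimpleGroup T] {A C K : Subgroup T} (hC : C ≠ ⊤)
    (hcop : A.index.Coprime C.index) (hK : SubnIn K A) (hK1 : K ≠ ⊥) :
    ∃ C' : Subgroup K, C' ≠ ⊤ ∧ C'.index ∣ C.index :=
  exists_sub_of_subn_aux hC hcop hK.1 hK.2 hK1

end Cfsg.Agent.R2.T3544
end

-- part: R2/T3544/FOne
section
/-!
# S3544 when the point stabilizer has trivial Fitting subgroup
-/

set_option autoImplicit false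
set_option linter.unusedSectionVars false

namespace Cfsg.Agent.R2.T3544

open Subgroup Cfsg MulAction
open scoped commutatorElement
open Cfsg.Agent.SignalizersComponents.Components

variable {G : Type*} [Group G] {Ω : Type*} [MulAction G Ω]

/-- a proper subgroup of index dividing `d` -/
def HasIdx (K : Type*) [Group K] (d : ℕ) : Prop := ∃ C : Subgroup K, C ≠ ⊤ ∧ C.index ∣ d

theorem HasIdx.congr {K L : Type*} [Group K] [Group L] (e : K ≃* L) {d : ℕ} (h : HasIdx K d) :
    HasIdx L d := by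
  obtain ⟨C, hC, hd⟩ := h
  refine ⟨C.map e.toMonoidHom, ?_, ?_⟩
  · intro h1
    apply hC
    rw [eq_top_iff]
    intro x _
    have : e x ∈ C.map e.toMonoidHom := by rw [h1]; trivial
    obtain ⟨y, hy, hyx⟩ := this
    rwa [← e.injective hyx]
  · have h := Subgroup.index_comap_of_surjective (H := C.map e.toMonoidHom) (f := e.toMonoidHom) e.surjective
    rw [Subgroup.comap_map_eq_self_of_injective (f := e.toMonoidHom) e.injective] at h
    rwa [← h]

theorem HasIdx.of_card_dvd {K : Type*} [Group K] [Nontrivial K] {d : ℕ} (h : Nat.card K ∣ d) : HasIdx K d :=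
  ⟨⊥, bot_ne_top, by rwa [index_bot]⟩

/-- order dividing `d`, coprime to `d'`: no proper subgroup of index dividing `d'` -/
theorem not_hasIdx_of_card_dvd {K : Type*} [Group K] {d d' : ℕ} (h : Nat.card K ∣ d)
    (hc : d.Coprime d') : ¬ HasIdx K d' := by
  rintro ⟨C, hC, hd⟩
  apply hC
  rw [← index_eq_one]
  exact Nat.eq_one_of_dvd_coprimes hc (C.index_dvd_card.trans h) hd

/-! ### The kernel on a neighbourhood -/

/-- `M_r(x)`: the subgroup of `G_x` fixing every neighbour of `x` -/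
def Mk (G : Type*) [Group G] {Ω : Type*} [MulAction G Ω] (r : Ω → Ω → Prop) (x : Ω) : Subgroup G :=
  stabilizer G x ⊓ ⨅ y, ⨅ (_ : r x y), stabilizer G y

theorem Mk_le (r : Ω → Ω → Prop) (x : Ω) : Mk G r x ≤ stabilizer G x := inf_le_left

theorem Mk_le_nbr {r : Ω → Ω → Prop} {x y : Ω} (h : r x y) : Mk G r x ≤ stabilizer G y :=
  inf_le_right.trans (iInf₂_le y h)

theorem le_Mk {r : Ω → Ω → Prop} {x : Ω} {K : Subgroup G} (h1 : K ≤ stabilizer G x)
    (h2 : ∀ y, r x y → K ≤ stabilizer G y) : K ≤ Mk G r x :=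
  le_inf h1 (le_iInf₂ h2)

theorem stab_smul (g : G) (x : Ω) :
    stabilizer G (g • x) = (stabilizer G x).map (MulAut.conj g).toMonoidHom :=
  stabilizer_smul_eq_stabilizer_map_conj g x

theorem Dir.nbr {r : Ω → Ω → Prop} {d : ℕ} (D : Dir G r d) {x y : Ω} (h : r x y) {g : G}
    (hg : g ∈ stabilizer G x) : r x (g • y) := by
  have := D.smul g h
  rwa [mem_stabilizer_iff.1 hg] at this

theorem Dir.Mk_norm {r : Ω → Ω → Prop} {d : ℕ} (D : Dir G r d) (x : Ω) :
    stabilizer G x ≤ normalizer (Mk G r x : Set G) := by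
  have key : ∀ g ∈ stabilizer G x, ∀ m ∈ Mk G r x, g * m * g⁻¹ ∈ Mk G r x := by
    intro g hg m hm
    have h0 : g * m * g⁻¹ ∈ stabilizer G x :=
      (stabilizer G x).mul_mem ((stabilizer G x).mul_mem hg (Mk_le r x hm)) ((stabilizer G x).inv_mem hg)
    refine mem_inf.2 ⟨h0, ?_⟩
    rw [mem_iInf]
    intro y
    rw [mem_iInf]
    intro hy
    have h1 := D.nbr hy ((stabilizer G x).inv_mem hg)
    have h2 : m ∈ stabilizer G (g⁻¹ • y) := Mk_le_nbr h1 hm
    rw [mem_stabilizer_iff] at h2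
    rw [mem_stabilizer_iff, mul_smul, mul_smul, h2, smul_inv_smul]
  intro g hg
  rw [mem_normalizer_iff]
  intro m
  refine ⟨key g hg m, fun h => ?_⟩
  have := key g⁻¹ ((stabilizer G x).inv_mem hg) _ h
  have e : g⁻¹ * (g * m * g⁻¹) * g⁻¹⁻¹ = m := by group
  rwa [e] at this

theorem Dir.not_le {r : Ω → Ω → Prop} {d : ℕ} (D : Dir G r d) {x y : Ω} (h : r x y) :
    ¬ stabilizer G x ≤ stabilizer G y := by
  intro h1
  have h2 := D.idx h
  rw [relIndex_eq_one.2 h1] at h2
  have := D.one_lt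
  omega

/-- coprime directions: `|G_xy : G_xyw| = d_b` -/
theorem Dir.relIndex_inf [Finite G] {ra rb : Ω → Ω → Prop} {da db : ℕ} (A : Dir G ra da)
    (B : Dir G rb db) (hc : da.Coprime db) {x y w : Ω} (hy : ra x y) (hw : rb x w) :
    (stabilizer G w).relIndex (stabilizer G y ⊓ stabilizer G x) = db := by
  have h1 : ((stabilizer G y).subgroupOf (stabilizer G x)).index = da := A.idx hy
  have h2 : ((stabilizer G w).subgroupOf (stabilizer G x)).index = db := B.idx hw
  have h3 := S0007.relIndex_eq ((stabilizer G w).subgroupOf (stabilizer G x))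
    ((stabilizer G y).subgroupOf (stabilizer G x)) (by rw [h1, h2]; exact hc.symm)
  rw [h2] at h3
  rw [← h3, ← relIndex_subgroupOf (inf_le_right : stabilizer G y ⊓ stabilizer G x ≤ stabilizer G x),
    inf_subgroupOf_right]

/-- a subnormal subgroup of `G_x` without proper subgroup of index dividing `d` lies in `M(x)` -/
theorem Dir.le_Mk_of_subn [Finite G] {r : Ω → Ω → Prop} {d : ℕ} (D : Dir G r d) {x : Ω} {K : Subgroup G}
    (hK : SubnIn K (stabilizer G x)) (h : ¬ HasIdx K d) : K ≤ Mk G r x := by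
  refine le_Mk hK.1 fun y hy => ?_
  by_contra hc
  apply h
  refine ⟨(stabilizer G y).subgroupOf K, fun h1 => hc (subgroupOf_eq_top.1 h1), ?_⟩
  have := hK.relIndex_dvd (stabilizer G y)
  rwa [D.idx hy] at this

/-- the same one step away, in a coprime direction -/
theorem Dir.le_Mk_of_subn' [Finite G] {ra rb : Ω → Ω → Prop} {da db : ℕ} (A : Dir G ra da)
    (B : Dir G rb db) (hc : da.Coprime db) {x y : Ω} (hy : ra x y) {K : Subgroup G}
    (hK : SubnIn K (stabilizer G y)) (hKx : K ≤ stabilizer G x) (h : ¬ HasIdx K db) : K ≤ Mk G rb x := by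
  refine le_Mk hKx fun w hw => ?_
  by_contra hc'
  apply h
  refine ⟨(stabilizer G w).subgroupOf K, fun h1 => hc' (subgroupOf_eq_top.1 h1), ?_⟩
  have h1 := (hK.mono (le_inf hK.1 hKx) inf_le_left).relIndex_dvd (stabilizer G w)
  rwa [A.relIndex_inf B hc hy hw] at h1

/-! ### The product of the components of a given isomorphism type -/

/-- the join of the components of `A` isomorphic to `T` -/
def XC (A : Subgroup G) (T : Type*) [Group T] : Subgroup G :=
  sSup {K | IsComponentOf K A ∧ Nonempty (K ≃* T)}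

theorem le_XC {A K : Subgroup G} {T : Type*} [Group T] (h : IsComponentOf K A) (e : K ≃* T) :
    K ≤ XC A T := le_sSup ⟨h, ⟨e⟩⟩

theorem XC_le_iff {A B : Subgroup G} {T : Type*} [Group T] :
    XC A T ≤ B ↔ ∀ K, IsComponentOf K A → Nonempty (K ≃* T) → K ≤ B := by
  rw [XC, sSup_le_iff]
  exact ⟨fun h K h1 h2 => h K ⟨h1, h2⟩, fun h K hK => h K hK.1 hK.2⟩

theorem XC_le (A : Subgroup G) (T : Type*) [Group T] : XC A T ≤ A := XC_le_iff.2 fun _ h _ => h.1

theorem map_XC_le (A : Subgroup G) (T : Type*) [Group T] (g : G) :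
    (XC A T).map (MulAut.conj g).toMonoidHom ≤ XC (A.map (MulAut.conj g).toMonoidHom) T := by
  rw [map_le_iff_le_comap, XC_le_iff]
  rintro K hK ⟨e⟩
  rw [← map_le_iff_le_comap]
  exact le_XC (CompOf.conj hK g)
    ((K.equivMapOfInjective (MulAut.conj g).toMonoidHom (MulAut.conj g).injective).symm.trans e)

theorem map_map_conj_inv (A : Subgroup G) (g : G) :
    (A.map (MulAut.conj g).toMonoidHom).map (MulAut.conj g⁻¹).toMonoidHom = A := by
  rw [map_map]
  have : (MulAut.conj g⁻¹).toMonoidHom.comp (MulAut.conj g).toMonoidHom = MonoidHom.id G := by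
    ext x
    simp [mul_assoc]
  rw [this, map_id]

theorem map_XC (A : Subgroup G) (T : Type*) [Group T] (g : G) :
    (XC A T).map (MulAut.conj g).toMonoidHom = XC (A.map (MulAut.conj g).toMonoidHom) T := by
  apply le_antisymm (map_XC_le A T g)
  have h1 := map_XC_le (A.map (MulAut.conj g).toMonoidHom) T g⁻¹
  rw [map_map_conj_inv] at h1
  have h2 := map_mono (f := (MulAut.conj g).toMonoidHom) h1
  have h3 := map_map_conj_inv (XC (A.map (MulAut.conj g).toMonoidHom) T) g⁻¹
  rw [inv_inv] at h3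
  rwa [h3] at h2

theorem map_conj_eq_self {A : Subgroup G} {g : G} (hg : g ∈ A) :
    A.map (MulAut.conj g).toMonoidHom = A := by
  apply le_antisymm
  · rintro _ ⟨y, hy, rfl⟩
    exact A.mul_mem (A.mul_mem hg hy) (A.inv_mem hg)
  · intro y hy
    refine ⟨g⁻¹ * y * g, A.mul_mem (A.mul_mem (A.inv_mem hg) hy) hg, ?_⟩
    show g * (g⁻¹ * y * g) * g⁻¹ = y
    group

theorem le_normalizer_of_map_le {A X : Subgroup G}
    (h : ∀ g ∈ A, X.map (MulAut.conj g).toMonoidHom ≤ X) : A ≤ normalizer (X : Set G) := by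
  intro g hg
  rw [mem_normalizer_iff]
  intro x
  refine ⟨fun hx => h g hg ⟨x, hx, rfl⟩, fun hx => ?_⟩
  have : g⁻¹ * (g * x * g⁻¹) * g⁻¹⁻¹ ∈ X := h g⁻¹ (inv_mem hg) ⟨_, hx, rfl⟩
  have e : g⁻¹ * (g * x * g⁻¹) * g⁻¹⁻¹ = x := by group
  rwa [e] at this

theorem XC_norm (A : Subgroup G) (T : Type*) [Group T] : A ≤ normalizer (XC A T : Set G) := by
  refine le_normalizer_of_map_le fun g hg => ?_
  rw [map_XC, map_conj_eq_self hg]

theorem XC_ne_bot {A K : Subgroup G} {T : Type*} [Group T] (h : IsComponentOf K A) (e : K ≃* T) :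
    XC A T ≠ ⊥ := by
  intro h1
  have := le_XC h e
  rw [h1, le_bot_iff] at this
  exact CompOf.ne_bot h this

/-- a normal subgroup not contained in... : `N_G(X) ≤ G_x` -/
theorem PP.norm_XC (P : PP G Ω) {x : Ω} {K : Subgroup G} {T : Type*} [Group T]
    (h : IsComponentOf K (stabilizer G x)) (e : K ≃* T) :
    normalizer (XC (stabilizer G x) T : Set G) ≤ stabilizer G x :=
  P.norm x _ (XC_le _ _) (XC_ne_bot h e) (XC_norm _ _)

/-- the components of type `T` of `G_x` are not all components of `G_y` -/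
theorem exists_not_comp [Finite G] (P : PP G Ω) {x y : Ω} (hxy : ¬ stabilizer G y ≤ stabilizer G x)
    {K : Subgroup G} {T : Type*} [Group T] (hK : IsComponentOf K (stabilizer G x)) (e : K ≃* T) :
    ∃ S, IsComponentOf S (stabilizer G x) ∧ Nonempty (S ≃* T) ∧ ¬ IsComponentOf S (stabilizer G y) := by
  by_contra hc
  push Not at hc
  have h1 : XC (stabilizer G x) T ≤ XC (stabilizer G y) T := by
    rw [XC_le_iff]
    rintro S hS ⟨f⟩
    exact le_XC (hc S hS ⟨f⟩) f
  obtain ⟨g, rfl⟩ := P.trans x y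
  have h2 : XC (stabilizer G x) T = XC (stabilizer G (g • x)) T := by
    refine eq_of_le_of_card_ge h1 ?_
    rw [stab_smul, ← map_XC, card_map_of_injective (MulAut.conj g).injective]
  apply hxy
  refine (XC_norm (stabilizer G (g • x)) T).trans ?_
  rw [← h2]
  exact P.norm_XC hK e

theorem PP.comp_transfer (P : PP G Ω) {x : Ω} (y : Ω) {K : Subgroup G} (hK : IsComponentOf K (stabilizer G x)) :
    ∃ L, IsComponentOf L (stabilizer G y) ∧ Nonempty (L ≃* K) := by
  obtain ⟨g, rfl⟩ := P.trans x y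
  refine ⟨K.map (MulAut.conj g).toMonoidHom, ?_, ⟨?_⟩⟩
  · rw [stab_smul]
    exact CompOf.conj hK g
  · exact (K.equivMapOfInjective (MulAut.conj g).toMonoidHom (MulAut.conj g).injective).symm

/-- if `F(B) = 1`, a nontrivial subgroup of `B` does not centralise all the components of `B` -/
theorem exists_comp_ne [Finite G] {B S : Subgroup G} (hF : fittingSubgroup B = ⊥) (hSB : S ≤ B) (hS : S ≠ ⊥) :
    ∃ T, IsComponentOf T B ∧ ⁅S, T⁆ ≠ ⊥ := by
  by_contra hc
  push Not at hc
  apply hS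
  have h1 : S.subgroupOf B ≤ centralizer (generalizedFittingSubgroup B : Set B) := by
    rw [← commutator_eq_bot_iff_le_centralizer, commutator_comm, commutator_eq_bot_iff_le_centralizer,
      Cfsg.Agent.Lib.GenFitting.genFitting_def, hF, sup_bot_eq, layer_le_iff]
    intro K hK
    rw [← commutator_eq_bot_iff_le_centralizer, commutator_comm]
    have hKB : K.map B.subtype ≤ B := map_subtype_le K
    have h2 : IsComponentOf (K.map B.subtype) B := by
      refine ⟨hKB, ?_⟩
      rwa [subgroupOf, comap_map_eq_self_of_injective B.subtype_injective]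
    have h3 := (commutator_subgroupOf_eq_bot hSB hKB).2 (hc _ h2)
    rwa [subgroupOf, subgroupOf, comap_map_eq_self_of_injective B.subtype_injective] at h3
  have h2 := h1.trans Cfsg.Agent.TwoFusion.FStarControl.centralizer_genFitting_le_fitting
  rw [hF, le_bot_iff, subgroupOf_eq_bot] at h2
  rw [eq_bot_iff]
  intro x hx
  exact h2.le_bot ⟨hx, hSB hx⟩

end Cfsg.Agent.R2.T3544
end

-- part: R2/T3544/Fun
section
/-!
# S3544: functors `X x ≤ G_x`
-/

set_option autoImplicit false

namespace Cfsg.Agent.R2.T3544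

open Subgroup MulAction

universe u v

/-- an equivariant family of subgroups `X x` of the point stabilizers -/
structure Fun (G : Type*) [Group G] {Ω : Type*} [MulAction G Ω] (X : Ω → Subgroup G) : Prop where
  le : ∀ x, X x ≤ stabilizer G x
  smul : ∀ (g : G) (x : Ω), X (g • x) = (X x).map (MulAut.conj g).toMonoidHom

section

variable {G : Type*} [Group G] {Ω : Type*} [MulAction G Ω] {X Y : Ω → Subgroup G}

theorem Fun.norm (h : Fun G X) (x : Ω) : stabilizer G x ≤ normalizer (X x : Set G) :=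
  le_normalizer_of_map_le fun g hg => by rw [← h.smul, mem_stabilizer_iff.1 hg]

theorem Fun.card_eq (h : Fun G X) (P : PP G Ω) (x y : Ω) : Nat.card (X x) = Nat.card (X y) := by
  obtain ⟨g, rfl⟩ := P.trans x y
  rw [h.smul, card_map_of_injective (MulAut.conj g).injective]

theorem Fun.ne_bot (h : Fun G X) (P : PP G Ω) {x : Ω} (hx : X x ≠ ⊥) (y : Ω) : X y ≠ ⊥ := by
  obtain ⟨g, rfl⟩ := P.trans x y
  rw [h.smul]
  intro h1
  exact hx ((map_eq_bot_iff_of_injective _ (MulAut.conj g).injective).1 h1)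

/-- property (P) for functors -/
theorem Fun.normalizer_le (h : Fun G X) (P : PP G Ω) {x : Ω} (hx : X x ≠ ⊥) :
    normalizer (X x : Set G) ≤ stabilizer G x :=
  P.norm x _ (h.le x) hx (h.norm x)

theorem cent_le_norm (A : Subgroup G) : centralizer (A : Set G) ≤ normalizer (A : Set G) := by
  intro g hg
  rw [mem_centralizer_iff] at hg
  rw [mem_normalizer_iff]
  intro a
  constructor
  · intro ha
    rwa [← hg a ha, mul_inv_cancel_right]
  · intro ha
    have h1 := hg _ ha
    have h2 : a = g * a * g⁻¹ := by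
      have h3 : g * a * g⁻¹ * g = g * (g * a * g⁻¹) := h1
      have h4 : g * a = g * (g * a * g⁻¹) := by rw [← h3]; group
      exact mul_left_cancel h4
    rw [h2]
    exact ha

theorem Fun.centralizer_le (h : Fun G X) (P : PP G Ω) {x : Ω} (hx : X x ≠ ⊥) :
    centralizer (X x : Set G) ≤ stabilizer G x :=
  (cent_le_norm (X x)).trans (h.normalizer_le P hx)

/-- a nontrivial functor has different values at neighbours -/
theorem Fun.not_le [Finite G] (h : Fun G X) (P : PP G Ω) {r : Ω → Ω → Prop} {d : ℕ} (D : Dir G r d) {x y : Ω}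
    (hr : r x y) (hx : X x ≠ ⊥) : ¬ X x ≤ X y := by
  intro h1
  have h2 : X x = X y := eq_of_le_of_card_ge h1 (h.card_eq P x y).ge
  apply D.not_le (D.symm hr)
  have h3 := h.norm y
  rw [← h2] at h3
  exact h3.trans (h.normalizer_le P hx)

theorem Fun.commutator (hX : Fun G X) (hY : Fun G Y) : Fun G (fun x => ⁅X x, Y x⁆) where
  le x := (commutator_mono (hX.le x) (hY.le x)).trans (commutator_le_self _)
  smul g x := by rw [map_commutator, hX.smul, hY.smul]

end

/-- functors from isomorphism-invariant constructions -/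
theorem Fun.of_iso {G : Type u} [Group G] {Ω : Type v} [MulAction G Ω] (F : ∀ (K : Type u) [Group K], Subgroup K)
    (hF : ∀ (K L : Type u) [Group K] [Group L] (e : K ≃* L), (F K).map e.toMonoidHom ≤ F L) :
    Fun G (fun x : Ω => (F (stabilizer G x)).map (stabilizer G x).subtype) := by
  have key : ∀ (g : G) (x : Ω), ((F (stabilizer G x)).map (stabilizer G x).subtype).map (MulAut.conj g).toMonoidHom ≤
      (F (stabilizer G (g • x))).map (stabilizer G (g • x)).subtype := by
    rintro g x _ ⟨_, ⟨k, hk, rfl⟩, rfl⟩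
    have hst := stab_smul (G := G) g x
    let e : stabilizer G x ≃* stabilizer G (g • x) :=
      ((stabilizer G x).equivMapOfInjective (MulAut.conj g).toMonoidHom (MulAut.conj g).injective).trans
        (MulEquiv.subgroupCongr hst.symm)
    refine ⟨e k, hF _ _ e ⟨k, hk, rfl⟩, rfl⟩
  refine ⟨fun x => map_subtype_le _, fun g x => le_antisymm ?_ (key g x)⟩
  have h1 := map_mono (f := (MulAut.conj g).toMonoidHom) (key g⁻¹ (g • x))
  rw [inv_smul_smul] at h1
  refine le_trans (le_of_eq ?_) h1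
  have h2 := map_map_conj_inv ((F (stabilizer G (g • x))).map (stabilizer G (g • x)).subtype) g⁻¹
  rw [inv_inv] at h2
  exact h2.symm

end Cfsg.Agent.R2.T3544
end

private theorem dce_5359089a57b8 : _root_.True := by
  try have : _root_.True := by simp only [_root_.Cfsg.Agent.R2.T3544.XC.eq_1]
  exact _root_.True.intro
end

-- part: R2/T3544/LocSol
section
prune_inst 0x10000500440010000018000000001c42a2000000000b00002040000004880c0180010620b060020001100064003c806813440009421000000a00820041180080040000029008b000010000408000000000000000000000000000000000000000000000000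
set_option linter.all false
open scoped Cfsg.Agent.FastGrp

-- part: R2/T3544/LocSolW
section
/-!
# S3544, the local theorem for soluble point stabilizers: the characteristic subgroup `W` (helper29)

A nontrivial finite `r`-group `R` has a nontrivial characteristic subgroup `W` such that for every finite soluble
group `A` of characteristic `r` with Sylow `r`-subgroup `R` the index of `N_A(W)` is a power of `3` for `r = 2`, of
`2` for `r = 3`, and `1` for `r ≥ 5`: `W` is Stellmacher's subgroup for `r = 2` and Glauberman's `Z(J(R))` for `r`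
odd, applied in a Hall subgroup of `A` above `R`.
-/

set_option autoImplicit false

namespace Cfsg.Agent.R2.T3544

open Subgroup Cfsg

universe u

/-- a Hall `t'`-subgroup above a given Sylow `r`-subgroup of a soluble group -/
theorem exists_hall_ge {A : Type*} [Group A] [Finite A] [Group.IsSolvable A] {r t : ℕ} [hr : Fact r.Prime]
    (ht : t.Prime) (hrt : r ≠ t) (P : Sylow r A) :
    ∃ H : Subgroup A, (P : Subgroup A) ≤ H ∧ ¬ t ∣ Nat.card H ∧ ∃ k, H.index = t ^ k := by
  have hA : Nat.card A ≠ 0 := Nat.card_pos.ne'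
  set n := t ^ (Nat.card A).factorization t with hn
  have hdvd : n ∣ Nat.card A := Nat.ordProj_dvd _ _
  have hcop : Nat.Coprime (Nat.card A / n) t := (Nat.coprime_ordCompl ht hA).symm
  obtain ⟨H₀, hH₀⟩ := Cfsg.Agent.S0003.result (G := A) (Nat.card A / n) n
    (Nat.div_mul_cancel hdvd).symm (hcop.pow_right _)
  have hnpos : 0 < n := pow_pos ht.pos _
  have hidx : H₀.index = n := by
    have h1 := H₀.card_mul_index
    rw [hH₀] at h1
    have h2 : Nat.card A / n * n = Nat.card A := Nat.div_mul_cancel hdvd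
    have h3 : 0 < Nat.card A / n := Nat.div_pos (Nat.le_of_dvd (Nat.pos_of_ne_zero hA) hdvd) hnpos
    exact Nat.eq_of_mul_eq_mul_left h3 (h1.trans h2.symm)
  obtain ⟨Q⟩ : Nonempty (Sylow r H₀) := inferInstance
  have hQp : IsPGroup r ((Q : Subgroup H₀).map H₀.subtype) := Q.isPGroup'.map _
  have hQi : ¬ r ∣ ((Q : Subgroup H₀).map H₀.subtype).index := by
    rw [Subgroup.index_map_subtype, hr.out.dvd_mul, not_or]
    refine ⟨Q.not_dvd_index, ?_⟩
    rw [hidx, hn]
    intro h
    exact hrt ((Nat.prime_dvd_prime_iff_eq hr.out ht).1 (hr.out.dvd_of_dvd_pow h))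
  let P' : Sylow r A := hQp.toSylow hQi
  obtain ⟨g, hg⟩ := MulAction.exists_smul_eq A P' P
  refine ⟨H₀.map (MulAut.conj g).toMonoidHom, ?_, ?_, (Nat.card A).factorization t, ?_⟩
  · rw [← hg]
    rintro x hx
    have hx2 : x ∈ (P' : Subgroup A).map (MulAut.conj g).toMonoidHom := hx
    refine Subgroup.map_mono ?_ hx2
    intro y hy
    have hy2 : y ∈ (Q : Subgroup H₀).map H₀.subtype := hy
    obtain ⟨z, _, rfl⟩ := hy2
    exact z.2
  · rw [Subgroup.card_map_of_injective (MulAut.conj g).injective, hH₀]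
    intro h
    have := Nat.Coprime.eq_one_of_dvd hcop.symm h
    exact ht.one_lt.ne' this
  · rw [← hn, ← hidx]
    exact Subgroup.index_map_equiv H₀ (MulAut.conj g)

/-- characteristic `r` is inherited by the subgroups above a Sylow `r`-subgroup -/
theorem centralizer_pCore_restr {A : Type*} [Group A] [Finite A] {r : ℕ} [Fact r.Prime] (P : Sylow r A)
    (H : Subgroup A) (hPH : (P : Subgroup A) ≤ H)
    (hc : Subgroup.centralizer (Cfsg.pCore r A : Set A) ≤ Cfsg.pCore r A) :
    Subgroup.centralizer (Cfsg.pCore r H : Set H) ≤ Cfsg.pCore r H := by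
  have hle : Cfsg.pCore r A ≤ (P : Subgroup A) :=
    IsPGroup.le_sylow_of_normal (Cfsg.Agent.Lib.Cores.pCore_isPGroup r) P
  have h1 : (Cfsg.pCore r A).subgroupOf H ≤ Cfsg.pCore r H := by
    refine Cfsg.Agent.Lib.Cores.le_pCore inferInstance ?_
    exact (Cfsg.Agent.Lib.Cores.pCore_isPGroup (G := A) r).comap_of_injective H.subtype H.subtype_injective
  intro x hx
  apply h1
  rw [Subgroup.mem_subgroupOf]
  apply hc
  rw [Subgroup.mem_centralizer_iff]
  intro y hy
  have hyH : y ∈ H := hPH (hle hy)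
  have h2 := Subgroup.mem_centralizer_iff.1 hx ⟨y, hyH⟩ (h1 (Subgroup.mem_subgroupOf.2 hy))
  exact congrArg Subtype.val h2

/-- `W` normal in `H` for every embedding gives `H ≤ N_A(W)` -/
theorem le_normalizer_of_restr {A R : Type*} [Group A] [Group R] [Finite A] {r : ℕ} [Fact r.Prime]
    (W : Subgroup R) (τ : R →* A) (hτ : Function.Injective τ) (P : Sylow r A) (hP : (P : Subgroup A) = τ.range)
    (H : Subgroup A) (hPH : (P : Subgroup A) ≤ H)
    (hn : ∀ τ' : R →* H, Function.Injective τ' → (∃ Q : Sylow r H, (Q : Subgroup H) = τ'.range) →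
      (W.map τ').Normal) :
    H ≤ Subgroup.normalizer (W.map τ : Set A) := by
  have hmem : ∀ x, τ x ∈ H := fun x => hPH (by rw [hP]; exact ⟨x, rfl⟩)
  have h1 := hn (τ.codRestrict H hmem) (fun a b h => hτ (congrArg Subtype.val h)) ⟨P.subtype hPH, by
    ext y
    rw [Sylow.coe_subtype, Subgroup.mem_subgroupOf, hP]
    constructor
    · rintro ⟨x, hx⟩
      exact ⟨x, Subtype.ext hx⟩
    · rintro ⟨x, hx⟩
      exact ⟨x, congrArg Subtype.val hx⟩⟩
  intro h hh
  rw [Subgroup.mem_normalizer_iff]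
  have key : ∀ (g : A), g ∈ H → ∀ x, x ∈ W.map τ → g * x * g⁻¹ ∈ W.map τ := by
    rintro g hg _ ⟨w, hw, rfl⟩
    obtain ⟨w', hw', hw2⟩ := h1.conj_mem (τ.codRestrict H hmem w) ⟨w, hw, rfl⟩ ⟨g, hg⟩
    exact ⟨w', hw', congrArg Subtype.val hw2⟩
  intro x
  refine ⟨key h hh x, fun hx => ?_⟩
  have := key h⁻¹ (H.inv_mem hh) _ hx
  simpa [mul_assoc] using this

/-- the order of a section divides the order -/
theorem card_section_dvd {H Y : Type*} [Group H] [Finite H] [Group Y]
    (h : ∃ (K R : Subgroup H) (_ : (R.subgroupOf K).Normal), Nonempty ((K ⧸ R.subgroupOf K) ≃* Y)) :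
    Nat.card Y ∣ Nat.card H := by
  obtain ⟨K, R, hR, ⟨e⟩⟩ := h
  rw [← Nat.card_congr e.toEquiv]
  exact (Subgroup.card_quotient_dvd_card _).trans (Subgroup.card_subgroup_dvd_card K)

/-- a section of a soluble group is soluble -/
theorem isSolvable_of_section {H Y : Type*} [Group H] [hs : Group.IsSolvable H] [Group Y]
    (h : ∃ (K R : Subgroup H) (_ : (R.subgroupOf K).Normal), Nonempty ((K ⧸ R.subgroupOf K) ≃* Y)) :
    Group.IsSolvable Y := by
  obtain ⟨K, R, hR, ⟨e⟩⟩ := h
  exact Group.isSolvable_of_surjective (f := e.toMonoidHom) e.surjective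

/-- the embedding of `SL(2,r)` into `Qd(r)` -/
def qdDiag (r : ℕ) : Cfsg.Agent.PLocal.QdSection.S2 r →* Cfsg.qd r :=
  (Cfsg.Agent.PLocal.QdSection.diag (p := r)).codRestrict (Cfsg.qd r)
    Cfsg.Agent.PLocal.QdSection.diag_mem_qd

theorem qdDiag_injective (r : ℕ) : Function.Injective (qdDiag r) := by
  intro A B h
  have h1 : Cfsg.Agent.PLocal.QdSection.diag A = Cfsg.Agent.PLocal.QdSection.diag B :=
    congrArg Subtype.val h
  have h2 : ((Cfsg.Agent.PLocal.QdSection.diag A : Matrix.SpecialLinearGroup (Fin 3) (ZMod r)) :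
      Matrix (Fin 3) (Fin 3) (ZMod r)) = (Cfsg.Agent.PLocal.QdSection.diag B :
        Matrix.SpecialLinearGroup (Fin 3) (ZMod r)) := congrArg Subtype.val h1
  rw [Cfsg.Agent.PLocal.QdSection.diag_apply, Cfsg.Agent.PLocal.QdSection.diag_apply] at h2
  ext i j
  have h00 := congrFun (congrFun h2 0) 0
  have h01 := congrFun (congrFun h2 0) 1
  have h10 := congrFun (congrFun h2 1) 0
  have h11 := congrFun (congrFun h2 1) 1
  simp at h00 h01 h10 h11
  fin_cases i <;> fin_cases j <;> simp [h00, h01, h10, h11]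

theorem qd_not_isSolvable {r : ℕ} [hr : Fact r.Prime] (h4 : 4 ≤ r) : ¬ Group.IsSolvable (Cfsg.qd r) := by
  intro h
  have h1 : Group.IsSolvable (Cfsg.Agent.PLocal.QdSection.S2 r) :=
    Group.isSolvable_of_isSolvable_injective (f := qdDiag r) (qdDiag_injective r)
  refine Cfsg.Agent.SignalizersComponents.ComponentExists.not_isSolvable_of_isQuasisimple
    (Cfsg.Agent.SignalizersComponents.SLQuasisimple.isQuasisimple_two (F := ZMod r) ?_) h1
  rwa [Nat.card_zmod]

theorem two_dvd_card_qd_three : 2 ∣ Nat.card (Cfsg.qd 3) := by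
  have h1 : (-1 : Cfsg.Agent.PLocal.QdSection.S2 3) ≠ 1 := by decide
  have h2 : orderOf (-1 : Cfsg.Agent.PLocal.QdSection.S2 3) = 2 := by
    refine orderOf_eq_prime (by decide) h1
  have h3 : orderOf (qdDiag 3 (-1)) = 2 := by
    rw [orderOf_injective _ (qdDiag_injective 3), h2]
  rw [← h3]
  exact orderOf_dvd_natCard _

/-- **the characteristic subgroup of the local theorem for soluble point stabilizers** -/
theorem exists_charW {r : ℕ} [hr : Fact r.Prime] {R : Type u} [Group R] [Finite R] [Nontrivial R]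
    (hR : IsPGroup r R) :
    ∃ W : Subgroup R, W ≠ ⊥ ∧ W.Characteristic ∧
      ∀ (A : Type u) [Group A] [Finite A] [Group.IsSolvable A] (τ : R →* A), Function.Injective τ →
        (∃ P : Sylow r A, (P : Subgroup A) = τ.range) →
        Subgroup.centralizer (Cfsg.pCore r A : Set A) ≤ Cfsg.pCore r A →
        ∀ s : ℕ, s.Prime → s ∣ (Subgroup.normalizer (W.map τ : Set A)).index →
          (r = 2 ∧ s = 3) ∨ (r = 3 ∧ s = 2) := by
  by_cases h2 : r = 2
  · subst h2
    obtain ⟨W, hW1, hW2, hW3⟩ := Cfsg.Agent.S0665.result hR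
    refine ⟨W, hW1, hW2, ?_⟩
    rintro A _ _ _ τ hτ ⟨P, hP⟩ hc s hs hsd
    obtain ⟨H, hPH, hH3, k, hk⟩ := exists_hall_ge (r := 2) Nat.prime_three (by decide) P
    have hle := le_normalizer_of_restr W τ hτ P hP H hPH (fun τ' hτ' hQ => hW3 H τ' hτ' hQ (by
      intro h
      apply hH3
      refine dvd_trans ?_ (card_section_dvd h)
      rw [Nat.card_eq_fintype_card, Fintype.card_perm, Fintype.card_fin]
      decide) (centralizer_pCore_restr P H hPH hc))
    have h1 : s ∣ 3 ^ k := by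
      rw [← hk]
      exact hsd.trans (Subgroup.index_dvd_of_le hle)
    exact Or.inl ⟨rfl, (Nat.prime_dvd_prime_iff_eq hs Nat.prime_three).1 (hs.dvd_of_dvd_pow h1)⟩
  · have htop : (⊤ : Subgroup R) ≠ ⊥ := top_ne_bot
    refine ⟨centerThompsonAOf (⊤ : Subgroup R),
      Cfsg.Agent.PLocal.ThompsonJA.centerThompsonAOf_ne_bot ⊤
        (hR.of_injective (⊤ : Subgroup R).subtype (Subgroup.subtype_injective _)) htop, ?_, ?_⟩
    · rw [Subgroup.characteristic_iff_map_eq]
      intro φ
      have := Cfsg.Agent.PLocal.ThompsonJA.map_centerThompsonAOf φ.toMonoidHom φ.injective ⊤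
      rw [this, Subgroup.map_top_of_surjective _ φ.surjective]
    · rintro A _ _ _ τ hτ ⟨P, hP⟩ hc s hs hsd
      have hWmap : ∀ (B : Type u) [Group B] (τ' : R →* B), Function.Injective τ' →
          (centerThompsonAOf (⊤ : Subgroup R)).map τ' = centerThompsonAOf τ'.range := by
        intro B _ τ' hτ'
        rw [Cfsg.Agent.PLocal.ThompsonJA.map_centerThompsonAOf τ' hτ', ← MonoidHom.range_eq_map]
      by_cases h3 : r = 3
      · subst h3
        obtain ⟨H, hPH, hH2, k, hk⟩ := exists_hall_ge (r := 3) Nat.prime_two (by decide) P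
        have hle := le_normalizer_of_restr (centerThompsonAOf (⊤ : Subgroup R)) τ hτ P hP H hPH
          (fun τ' hτ' hQ => by
            obtain ⟨Q, hQ⟩ := hQ
            rw [hWmap H τ' hτ', ← hQ]
            refine Cfsg.Agent.S0664.result h2 ?_ (centralizer_pCore_restr P H hPH hc) Q
            intro h
            exact hH2 (two_dvd_card_qd_three.trans (card_section_dvd h)))
        have h1 : s ∣ 2 ^ k := by
          rw [← hk]
          exact hsd.trans (Subgroup.index_dvd_of_le hle)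
        exact Or.inr ⟨rfl, (Nat.prime_dvd_prime_iff_eq hs Nat.prime_two).1 (hs.dvd_of_dvd_pow h1)⟩
      · exfalso
        have hn : ((centerThompsonAOf (⊤ : Subgroup R)).map τ).Normal := by
          rw [hWmap A τ hτ, ← hP]
          refine Cfsg.Agent.S0664.result h2 ?_ hc P
          intro h
          have h4 : 4 ≤ r := by
            have := hr.out.two_le
            omega
          exact qd_not_isSolvable h4 (isSolvable_of_section h)
        rw [Subgroup.normalizer_eq_top, Subgroup.index_top] at hsd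
        exact hs.one_lt.ne' (Nat.dvd_one.1 hsd)

end Cfsg.Agent.R2.T3544
end

-- part: R2/T3544/LocSol
section
/-!
# S3544: soluble point stabilizers, `F(G_x)` an `r`-group (characteristic subgroups of Sylow subgroups)
-/

set_option autoImplicit false

namespace Cfsg.Agent.R2.T3544

open Subgroup MulAction

universe u v

section

variable {G : Type*} [Group G] {Ω : Type*} [MulAction G Ω]

/-- the points reached from `x` by steps `(g • x, g • y)` -/
inductive StepReach (G : Type*) [Group G] {Ω : Type*} [MulAction G Ω] (x y : Ω) : Ω → Prop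
  | base : StepReach G x y x
  | step (g : G) : StepReach G x y (g • x) → StepReach G x y (g • y)

theorem StepReach.smul {x y z : Ω} (h : StepReach G x y z) {w : G} (hw : StepReach G x y (w • x)) :
    StepReach G x y (w • z) := by
  induction h with
  | base => exact hw
  | step g _ ih =>
    rw [← mul_smul] at ih ⊢
    exact StepReach.step (w * g) ih

theorem StepReach.pow {x y : Ω} {w : G} (hw : StepReach G x y (w • x)) (n : ℕ) :
    StepReach G x y (w ^ n • x) := by
  induction n with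
  | zero => rw [pow_zero, one_smul]; exact StepReach.base
  | succ n ih =>
    rw [pow_succ', mul_smul]
    exact ih.smul hw

theorem StepReach.inv [Finite G] {x y : Ω} {w : G} (hw : StepReach G x y (w • x)) :
    StepReach G x y (w⁻¹ • x) := by
  have h1 : w⁻¹ ∈ Submonoid.powers w :=
    mem_powers_iff_mem_zpowers.2 (inv_mem (mem_zpowers w))
  obtain ⟨n, hn⟩ := h1
  have hn' : w ^ n = w⁻¹ := hn
  rw [← hn']
  exact hw.pow n

/-- characteristic subgroups are normalised by the normalizer -/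
theorem normalizer_le_of_char {K : Type*} [Group K] (f : K →* G) (hf : Function.Injective f)
    {W : Subgroup K} (hW : W.Characteristic) :
    normalizer (f.range : Set G) ≤ normalizer (W.map f : Set G) := by
  refine le_normalizer_of_map_le fun g hg => ?_
  let e : K ≃* f.range := MonoidHom.ofInjective hf
  let a : MulAut f.range := f.range.normalizerMonoidHom ⟨g, hg⟩
  let φ : K ≃* K := (e.trans a).trans e.symm
  rintro _ ⟨_, ⟨w, hw, rfl⟩, rfl⟩
  have h1 : φ w ∈ W := by
    have h2 : φ w ∈ W.map φ.toMonoidHom := ⟨w, hw, rfl⟩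
    rwa [characteristic_iff_map_eq.1 hW φ] at h2
  refine ⟨φ w, h1, ?_⟩
  have h3 : e (φ w) = a (e w) := e.apply_symm_apply _
  have h4 : ((e (φ w) : f.range) : G) = ((a (e w) : f.range) : G) := congrArg _ h3
  exact h4

end

end Cfsg.Agent.R2.T3544
end
end

-- part: T44/Sol
section
set_option linter.all false
open scoped Cfsg.Agent.FastGrp

/-!
# S3544, local case: `M = T ⊓ H` is not soluble (helper36)
-/

set_option autoImplicit false

namespace Cfsg.Agent.T44

open Subgroup Cfsg

variable {G : Type*} [Group G]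

/-- `Q` as a subgroup of `M` -/
theorem IsO.subgroupOf_eq {r : ℕ} {Q M : Subgroup G} (h : IsO r Q M) : Q.subgroupOf M = pCore r M := by
  rw [h.unique (isO_pCore r M), Lib.LocalCore.subgroupOf_map_subtype_self]

theorem IsO.cent_pCore {r : ℕ} {Q M : Subgroup G} (h : IsO r Q M) (hc : M ⊓ centralizer (Q : Set G) ≤ Q) :
    centralizer (pCore r M : Set M) ≤ pCore r M := by
  rw [← h.subgroupOf_eq]
  intro x hx
  refine hc ⟨x.2, mem_centralizer_iff.2 fun q hq => ?_⟩
  exact congrArg Subtype.val (mem_centralizer_iff.1 hx ⟨q, h.le hq⟩ hq)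

namespace Cfg

variable {T H Q : Subgroup G} {r : ℕ} {Ya Yb : Set G} {da db : ℕ}

theorem not_solvable_aux [Finite G] (h : Cfg T H Q r Ya Yb da db) (h2 : r = 2 → ¬ 3 ∣ da) (h3 : r = 3 → ¬ 2 ∣ da)
    (hs : Group.IsSolvable (T ⊓ H : Subgroup G)) : False := by
  have : Fact r.Prime := ⟨h.prime⟩
  obtain ⟨R, hR⟩ := exists_syl' h.prime (T ⊓ H)
  have hnt : Nontrivial R := by
    rw [Subgroup.nontrivial_iff_ne_bot]
    intro e
    exact h.Q_ne (le_bot_iff.1 (e ▸ h.Q_le_syl hR))
  obtain ⟨W, hW1, hW2, hW3⟩ := R2.T3544.exists_charW hR.pg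
  have hp : IsPGroup r (R.subgroupOf (T ⊓ H)) := hR.pg.comap_subtype
  have h1 := hW3 (T ⊓ H : Subgroup G) (inclusion hR.le) (inclusion_injective _)
    ⟨hp.toSylow hR.idx, (inclusion_range hR.le).symm⟩ (h.isO.cent_pCore h.cent)
  have hWR : W.map R.subtype ≤ R := map_subtype_le _
  have e1 : W.map (inclusion hR.le) = (W.map R.subtype).subgroupOf (T ⊓ H) := by
    ext x
    constructor
    · rintro ⟨w, hw, rfl⟩
      exact ⟨w, hw, rfl⟩
    · rintro ⟨w, hw, e⟩
      exact ⟨w, hw, Subtype.ext e⟩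
  rw [e1, ← subgroupOf_normalizer_eq (hWR.trans hR.le)] at h1
  refine h.false_of_transport (W := W.map R.subtype) hR ?_ ((hWR.trans hR.le).trans inf_le_right) ?_ ?_
  · intro e
    exact hW1 ((map_eq_bot_iff_of_injective _ R.subtype_injective).1 e)
  · refine inf_le_right.trans ?_
    have := R2.T3544.normalizer_le_of_char R.subtype R.subtype_injective hW2
    rwa [range_subtype] at this
  · refine Nat.Coprime.symm (Nat.coprime_of_dvd ?_)
    intro s hs hsd hsi
    rcases h1 s hs hsi with ⟨a, b⟩ | ⟨a, b⟩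
    · exact h2 a (b ▸ hsd)
    · exact h3 a (b ▸ hsd)

/-- **`M` is not soluble** -/
theorem not_solvable [Finite G] (h : Cfg T H Q r Ya Yb da db) : ¬ Group.IsSolvable (T ⊓ H : Subgroup G) := by
  intro hs
  have key : ∀ s : ℕ, s.Prime → ¬ s ∣ da ∨ ¬ s ∣ db := by
    intro s hs
    by_contra hc
    push Not at hc
    exact hs.one_lt.ne' (Nat.eq_one_of_dvd_coprimes h.cop hc.1 hc.2)
  by_cases h2 : r = 2
  · rcases key 3 Nat.prime_three with e | e
    · exact h.not_solvable_aux (fun _ => e) (fun _ => by omega) hs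
    · exact h.symm.not_solvable_aux (fun _ => e) (fun _ => by omega) hs
  · rcases key 2 Nat.prime_two with e | e
    · exact h.not_solvable_aux (fun a => absurd a h2) (fun _ => e) hs
    · exact h.symm.not_solvable_aux (fun a => absurd a h2) (fun _ => e) hs

end Cfg

end Cfsg.Agent.T44
end

-- part: R2/T3544/Chief
section
set_option linter.all false
open scoped Cfsg.Agent.FastGrp

/-!
# S3544: chief factors `(L, H)` of `O` inside `O`, as pairs of subgroups of one group

`CF O L H`: the elements of `O` (normalising `L`) which centralise `H/L`.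
`Chf O L H`: `H/L` is a chief factor of `O`, `H ≤ O`.
`wt O L H = 2 |O : C_O(H/L)| + (1 if H/L is abelian)`.
-/

set_option autoImplicit false

namespace Cfsg.Agent.R2.T3544

open Subgroup
open scoped commutatorElement

variable {G : Type*} [Group G]

/-- the centraliser in `O` of the factor `H/L` -/
def CF (O L H : Subgroup G) : Subgroup G where
  carrier := {g | g ∈ O ∧ g ∈ normalizer (L : Set G) ∧ ∀ h ∈ H, ⁅g, h⁆ ∈ L}
  mul_mem' := by
    rintro a b ⟨ha1, ha2, ha3⟩ ⟨hb1, hb2, hb3⟩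
    refine ⟨O.mul_mem ha1 hb1, (normalizer (L : Set G)).mul_mem ha2 hb2, fun h hh => ?_⟩
    have e : ⁅a * b, h⁆ = a * ⁅b, h⁆ * a⁻¹ * ⁅a, h⁆ := by simp only [commutatorElement_def]; group
    rw [e]
    exact L.mul_mem ((mem_normalizer_iff.1 ha2 _).1 (hb3 h hh)) (ha3 h hh)
  one_mem' := ⟨O.one_mem, one_mem _, fun h _ => by rw [commutatorElement_one_left]; exact L.one_mem⟩
  inv_mem' := by
    rintro a ⟨ha1, ha2, ha3⟩
    refine ⟨O.inv_mem ha1, inv_mem ha2, fun h hh => ?_⟩
    have e : ⁅a⁻¹, h⁆ = a⁻¹ * ⁅a, h⁆⁻¹ * a⁻¹⁻¹ := by simp only [commutatorElement_def]; group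
    rw [e]
    exact (mem_normalizer_iff.1 (inv_mem ha2) _).1 (L.inv_mem (ha3 h hh))

theorem mem_CF {O L H : Subgroup G} {g : G} :
    g ∈ CF O L H ↔ g ∈ O ∧ g ∈ normalizer (L : Set G) ∧ ∀ h ∈ H, ⁅g, h⁆ ∈ L := Iff.rfl

theorem CF_le (O L H : Subgroup G) : CF O L H ≤ O := fun _ h => h.1

theorem CF_comm (O L H : Subgroup G) : ⁅CF O L H, H⁆ ≤ L :=
  commutator_le.2 fun _ hg h hh => hg.2.2 h hh

theorem le_CF {O L H K : Subgroup G} (h1 : K ≤ O) (h2 : K ≤ normalizer (L : Set G)) (h3 : ⁅K, H⁆ ≤ L) :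
    K ≤ CF O L H :=
  fun _ hk => ⟨h1 hk, h2 hk, fun _ hh => h3 (commutator_mem_commutator hk hh)⟩

theorem CF_inf {O A L H : Subgroup G} (hA : A ≤ O) : CF A L H = A ⊓ CF O L H := by
  ext g
  rw [mem_inf, mem_CF, mem_CF]
  exact ⟨fun h => ⟨h.1, hA h.1, h.2⟩, fun h => ⟨h.1, h.2.2⟩⟩

/-- a chief factor of `O` inside `O` -/
structure Chf (O L H : Subgroup G) : Prop where
  lt : L < H
  le : H ≤ O
  nL : O ≤ normalizer (L : Set G)
  nH : O ≤ normalizer (H : Set G)
  min : ∀ M : Subgroup G, O ≤ normalizer (M : Set G) → L ≤ M → M ≤ H → M = L ∨ M = H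

open Classical in
/-- the weight `2 |O : C_O(H/L)| + (1 if H/L is abelian)` -/
noncomputable def wt (O L H : Subgroup G) : ℕ :=
  2 * (CF O L H).relIndex O + if ⁅H, H⁆ ≤ L then 1 else 0

/-- the order of the factor is not coprime to `d` -/
def Act (d : ℕ) (L H : Subgroup G) : Prop := ¬ (L.relIndex H).Coprime d

end Cfsg.Agent.R2.T3544
end

-- part: R2/T3544/Resid
section
prune_inst 0x3010010054221000001800000000002030000002000040002040000008080040804108000000001010541480000400081298000000000000000000000004000000000000903c0c00000000002002000000000000000000000000000000000000000000000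
set_option linter.all false
open scoped Cfsg.Agent.FastGrp

/-!
# S3544: residuals: the smallest `O`-normal `R ≤ N` such that `N/R` has no `O`-chief factor with property `p`
-/

set_option autoImplicit false
set_option linter.unusedSectionVars false

namespace Cfsg.Agent.R2.T3544

open Subgroup
open scoped commutatorElement

namespace Resid

variable {G : Type*} [Group G]

theorem norm_inf {O A B : Subgroup G} (hA : O ≤ normalizer (A : Set G)) (hB : O ≤ normalizer (B : Set G)) :
    O ≤ normalizer ((A ⊓ B : Subgroup G) : Set G) :=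
  (le_inf hA hB).trans inf_normalizer_le_normalizer_inf

theorem norm_sup {O A B : Subgroup G} (hA : O ≤ normalizer (A : Set G)) (hB : O ≤ normalizer (B : Set G)) :
    O ≤ normalizer ((A ⊔ B : Subgroup G) : Set G) :=
  (le_inf hA hB).trans (normalizer_inf_normalizer_le_normalizer_sup A B)

theorem exists_mul {A N : Subgroup G} (h : A ≤ normalizer (N : Set G)) {g : G} (hg : g ∈ N ⊔ A) :
    ∃ n ∈ N, ∃ a ∈ A, g = n * a := by
  rw [← SetLike.mem_coe, coe_mul_of_right_le_normalizer_left N A h] at hg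
  obtain ⟨n, hn, a, ha, rfl⟩ := hg
  exact ⟨n, hn, a, ha, rfl⟩

theorem exists_mul' {A N : Subgroup G} (h : A ≤ normalizer (N : Set G)) {g : G} (hg : g ∈ A ⊔ N) :
    ∃ n ∈ N, ∃ a ∈ A, g = n * a := by
  rw [sup_comm] at hg
  exact exists_mul h hg

/-- the up move -/
theorem up {O L H D : Subgroup G} (h : Chf O L H) (hD : O ≤ normalizer (D : Set G)) (hDO : D ≤ O)
    (hHD : H ⊓ D ≤ L) : Chf O (L ⊔ D) (H ⊔ D) where
  lt := by
    refine lt_of_le_of_ne (sup_le_sup_right h.lt.le D) fun he => h.lt.not_ge fun x hx => ?_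
    have h1 : x ∈ L ⊔ D := by rw [he]; exact (le_sup_left : H ≤ H ⊔ D) hx
    obtain ⟨d, hd, l, hl, rfl⟩ := exists_mul' ((h.lt.le.trans h.le).trans hD) h1
    have h2 : d ∈ H := by
      have := H.mul_mem hx (H.inv_mem (h.lt.le hl))
      rwa [mul_inv_cancel_right] at this
    exact L.mul_mem (hHD ⟨h2, hd⟩) hl
  le := sup_le h.le hDO
  nL := norm_sup h.nL hD
  nH := norm_sup h.nH hD
  min M hM h1 h2 := by
    rcases h.min (M ⊓ H) (norm_inf hM h.nH) (le_inf (le_sup_left.trans h1) h.lt.le) inf_le_right with h3 | h3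
    · left
      refine le_antisymm (fun m hm => ?_) h1
      obtain ⟨d, hd, x, hx, rfl⟩ := exists_mul' (h.le.trans hD) (h2 hm)
      have h4 : x ∈ M := by
        have := M.mul_mem (M.inv_mem (h1 ((le_sup_right : D ≤ L ⊔ D) hd))) hm
        rwa [inv_mul_cancel_left] at this
      have h5 : x ∈ L := by rw [← h3]; exact ⟨h4, hx⟩
      exact (L ⊔ D).mul_mem ((le_sup_right : D ≤ L ⊔ D) hd) ((le_sup_left : L ≤ L ⊔ D) h5)
    · right
      refine le_antisymm h2 (sup_le ?_ (le_sup_right.trans h1))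
      rw [← h3]
      exact inf_le_left

/-- the down move -/
theorem dn {O L H D : Subgroup G} (h : Chf O L H) (hD : O ≤ normalizer (D : Set G))
    (hHD : H ≤ L ⊔ H ⊓ D) : Chf O (L ⊓ D) (H ⊓ D) where
  lt := by
    refine lt_of_le_of_ne (inf_le_inf_right D h.lt.le) fun he => h.lt.not_ge (hHD.trans ?_)
    rw [← he]
    exact sup_le le_rfl inf_le_left
  le := inf_le_left.trans h.le
  nL := norm_inf h.nL hD
  nH := norm_inf h.nH hD
  min M hM h1 h2 := by
    rcases h.min (L ⊔ M) (norm_sup h.nL hM) le_sup_left (sup_le h.lt.le (h2.trans inf_le_left)) with h3 | h3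
    · left
      refine le_antisymm (le_inf ?_ (h2.trans inf_le_right)) h1
      rw [← h3]
      exact le_sup_right
    · right
      refine le_antisymm h2 fun x hx => ?_
      have h4 : x ∈ L ⊔ M := by rw [h3]; exact hx.1
      have hML : M ≤ normalizer (L : Set G) := ((h2.trans inf_le_left).trans h.le).trans h.nL
      obtain ⟨l, hl, m, hm, rfl⟩ := exists_mul hML h4
      have h5 : l ∈ D := by
        have := D.mul_mem hx.2 (D.inv_mem (h2 hm).2)
        rwa [mul_inv_cancel_right] at this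
      exact M.mul_mem (h1 ⟨hl, h5⟩) hm

/-- a chief factor moves up or down -/
theorem up_or_dn {O L H D : Subgroup G} (h : Chf O L H) (hD : O ≤ normalizer (D : Set G)) :
    H ⊓ D ≤ L ∨ H ≤ L ⊔ H ⊓ D := by
  rcases h.min (L ⊔ H ⊓ D) (norm_sup h.nL (norm_inf h.nH hD)) le_sup_left (sup_le h.lt.le inf_le_left) with h1 | h1
  · left
    rw [← h1]
    exact le_sup_right
  · right
    exact h1.ge

/-- no chief factor of `O` between `R` and `N` satisfies `p` -/
def NoCF (O N : Subgroup G) (p : Subgroup G → Subgroup G → Prop) (R : Subgroup G) : Prop :=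
  R ≤ N ∧ O ≤ normalizer (R : Set G) ∧ ∀ L H : Subgroup G, Chf O L H → R ≤ L → H ≤ N → ¬ p L H

/-- the residual -/
def res (O N : Subgroup G) (p : Subgroup G → Subgroup G → Prop) : Subgroup G := sInf {R | NoCF O N p R}

theorem noCF_self {O N : Subgroup G} (hN : O ≤ normalizer (N : Set G)) (p : Subgroup G → Subgroup G → Prop) :
    NoCF O N p N :=
  ⟨le_rfl, hN, fun _ _ h h1 h2 => absurd (h.lt.trans_le (h2.trans h1)) (lt_irrefl _)⟩

theorem NoCF.inf {O N : Subgroup G} (hNO : N ≤ O) {p : Subgroup G → Subgroup G → Prop}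
    (hup : ∀ L H D : Subgroup G, Chf O L H → O ≤ normalizer (D : Set G) → D ≤ O → H ⊓ D ≤ L → p L H →
      p (L ⊔ D) (H ⊔ D))
    (hdn : ∀ L H D : Subgroup G, Chf O L H → O ≤ normalizer (D : Set G) → D ≤ O → H ≤ L ⊔ H ⊓ D → p L H →
      p (L ⊓ D) (H ⊓ D)) {R R' : Subgroup G} (h : NoCF O N p R) (h' : NoCF O N p R') : NoCF O N p (R ⊓ R') := by
  refine ⟨inf_le_left.trans h.1, norm_inf h.2.1 h'.2.1, fun L H hc h1 h2 hp => ?_⟩
  rcases up_or_dn hc h.2.1 with h3 | h3
  · exact h.2.2 _ _ (up hc h.2.1 (h.1.trans hNO) h3) le_sup_right (sup_le h2 h.1)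
      (hup L H R hc h.2.1 (h.1.trans hNO) h3 hp)
  · have hc' := dn hc h.2.1 h3
    have h4 : H ⊓ R ⊓ R' ≤ L ⊓ R :=
      le_inf ((le_inf (inf_le_left.trans inf_le_right) inf_le_right).trans h1) (inf_le_left.trans inf_le_right)
    exact h'.2.2 _ _ (up hc' h'.2.1 (h'.1.trans hNO) h4) le_sup_right (sup_le (inf_le_left.trans h2) h'.1)
      (hup _ _ R' hc' h'.2.1 (h'.1.trans hNO) h4 (hdn L H R hc h.2.1 (h.1.trans hNO) h3 hp))

theorem res_le_of {O N : Subgroup G} {p : Subgroup G → Subgroup G → Prop} {R : Subgroup G} (h : NoCF O N p R) :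
    res O N p ≤ R := sInf_le h

/-- the residual has the property -/
theorem noCF_res [Finite G] {O N : Subgroup G} (hNO : N ≤ O) (hN : O ≤ normalizer (N : Set G))
    {p : Subgroup G → Subgroup G → Prop}
    (hup : ∀ L H D : Subgroup G, Chf O L H → O ≤ normalizer (D : Set G) → D ≤ O → H ⊓ D ≤ L → p L H →
      p (L ⊔ D) (H ⊔ D))
    (hdn : ∀ L H D : Subgroup G, Chf O L H → O ≤ normalizer (D : Set G) → D ≤ O → H ≤ L ⊔ H ⊓ D → p L H →
      p (L ⊓ D) (H ⊓ D)) : NoCF O N p (res O N p) := by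
  obtain ⟨R, hR, hmin⟩ := (Set.toFinite {R | NoCF O N p R}).exists_minimal ⟨N, noCF_self hN p⟩
  have h1 : res O N p = R := by
    refine le_antisymm (res_le_of hR) (le_sInf fun R' hR' => ?_)
    have h2 := NoCF.inf hNO hup hdn hR hR'
    exact (hmin h2 inf_le_left).trans inf_le_right
  rw [h1]
  exact hR

/-! ### conjugation -/

theorem norm_map {O A : Subgroup G} (hA : O ≤ normalizer (A : Set G)) (g : G) :
    O.map (MulAut.conj g).toMonoidHom ≤ normalizer ((A.map (MulAut.conj g).toMonoidHom : Subgroup G) : Set G) :=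
  (map_mono hA).trans (le_normalizer_map _)

theorem map_conj_le_iff {A B : Subgroup G} (g : G) :
    A.map (MulAut.conj g).toMonoidHom ≤ B.map (MulAut.conj g).toMonoidHom ↔ A ≤ B :=
  map_le_map_iff_of_injective (MulAut.conj g).injective

theorem map_conj_inv' (A : Subgroup G) (g : G) :
    (A.map (MulAut.conj g⁻¹).toMonoidHom).map (MulAut.conj g).toMonoidHom = A := by
  have := map_map_conj_inv A g⁻¹
  rwa [inv_inv] at this

theorem chf_map {O L H : Subgroup G} (h : Chf O L H) (g : G) :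
    Chf (O.map (MulAut.conj g).toMonoidHom) (L.map (MulAut.conj g).toMonoidHom)
      (H.map (MulAut.conj g).toMonoidHom) where
  lt := by
    rw [lt_iff_le_not_ge, map_conj_le_iff, map_conj_le_iff, ← lt_iff_le_not_ge]
    exact h.lt
  le := map_mono h.le
  nL := norm_map h.nL g
  nH := norm_map h.nH g
  min M hM h1 h2 := by
    have e := map_conj_inv' M g
    have h3 := norm_map hM g⁻¹
    rw [map_map_conj_inv] at h3
    rw [← e, map_conj_le_iff] at h1 h2
    rcases h.min _ h3 h1 h2 with h4 | h4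
    · left
      rw [← e, h4]
    · right
      rw [← e, h4]

theorem noCF_map {O N R : Subgroup G} {p p' : Subgroup G → Subgroup G → Prop} (g : G)
    (hp : ∀ L H : Subgroup G, Chf (O.map (MulAut.conj g).toMonoidHom) (L.map (MulAut.conj g).toMonoidHom)
      (H.map (MulAut.conj g).toMonoidHom) →
      p' (L.map (MulAut.conj g).toMonoidHom) (H.map (MulAut.conj g).toMonoidHom) → p L H)
    (h : NoCF O N p R) :
    NoCF (O.map (MulAut.conj g).toMonoidHom) (N.map (MulAut.conj g).toMonoidHom) p'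
      (R.map (MulAut.conj g).toMonoidHom) := by
  refine ⟨map_mono h.1, norm_map h.2.1 g, fun L H hc h1 h2 hpp => ?_⟩
  have e1 := map_conj_inv' L g
  have e2 := map_conj_inv' H g
  have hc' := chf_map hc g⁻¹
  rw [map_map_conj_inv] at hc'
  refine h.2.2 _ _ hc' ?_ ?_ (hp _ _ ?_ ?_)
  · rw [← map_conj_le_iff g, e1]; exact h1
  · rw [← map_conj_le_iff g, e2]; exact h2
  · rw [e1, e2]; exact hc
  · rw [e1, e2]; exact hpp

/-- the residual is equivariant -/
theorem res_map {O N : Subgroup G} {p p' : Subgroup G → Subgroup G → Prop} (g : G)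
    (hp : ∀ L H : Subgroup G,
      p' (L.map (MulAut.conj g).toMonoidHom) (H.map (MulAut.conj g).toMonoidHom) ↔ p L H) :
    res (O.map (MulAut.conj g).toMonoidHom) (N.map (MulAut.conj g).toMonoidHom) p' =
      (res O N p).map (MulAut.conj g).toMonoidHom := by
  apply le_antisymm
  · have h1 : (res (O.map (MulAut.conj g).toMonoidHom) (N.map (MulAut.conj g).toMonoidHom) p').map
        (MulAut.conj g⁻¹).toMonoidHom ≤ res O N p := by
      refine le_sInf fun R hR => ?_
      rw [← map_conj_le_iff g, map_conj_inv']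
      exact res_le_of (noCF_map g (fun L H _ => (hp L H).1) hR)
    have h2 := map_mono (f := (MulAut.conj g).toMonoidHom) h1
    rwa [map_conj_inv'] at h2
  · refine le_sInf fun R hR => ?_
    have h1 : NoCF O N p (R.map (MulAut.conj g⁻¹).toMonoidHom) := by
      have h2 := noCF_map (p := p') (p' := p) g⁻¹ (fun L H _ h => ?_) hR
      · rwa [map_map_conj_inv, map_map_conj_inv] at h2
      · rw [← hp, map_conj_inv', map_conj_inv'] at h
        exact h
    rw [← map_conj_inv' R g, map_conj_le_iff]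
    exact res_le_of h1

/-! ### chief factors between two normal subgroups -/

/-- C3 -/
theorem exists_chf [Finite G] {O L H : Subgroup G} (hL : O ≤ normalizer (L : Set G))
    (hH : O ≤ normalizer (H : Set G)) (hHO : H ≤ O) (hLH : L ≤ H) {q : ℕ} (hq : q.Prime)
    (hd : q ∣ L.relIndex H) : ∃ L' H' : Subgroup G, Chf O L' H' ∧ L ≤ L' ∧ H' ≤ H ∧ q ∣ L'.relIndex H' := by
  obtain ⟨n, hn⟩ : ∃ n, n = L.relIndex H := ⟨_, rfl⟩
  induction n using Nat.strong_induction_on generalizing L H with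
  | _ n ih =>
    have hlt : L < H := by
      refine lt_of_le_of_ne hLH fun h => ?_
      rw [h, relIndex_self] at hd
      exact hq.one_lt.ne' (Nat.dvd_one.1 hd)
    by_cases hc : ∀ M : Subgroup G, O ≤ normalizer (M : Set G) → L ≤ M → M ≤ H → M = L ∨ M = H
    · exact ⟨L, H, ⟨hlt, hHO, hL, hH, hc⟩, le_rfl, le_rfl, hd⟩
    · push Not at hc
      obtain ⟨M, hM, hLM, hMH, h1, h2⟩ := hc
      have h3 := relIndex_mul_relIndex L M H hLM hMH
      have h4 : L.relIndex M ≠ 1 := fun h => h1 (le_antisymm (relIndex_eq_one.1 h) hLM)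
      have h5 : M.relIndex H ≠ 1 := fun h => h2 (le_antisymm hMH (relIndex_eq_one.1 h))
      have h6 : L.relIndex M ≠ 0 := index_ne_zero_of_finite
      have h7 : M.relIndex H ≠ 0 := index_ne_zero_of_finite
      rw [← h3] at hd
      rcases (Nat.Prime.dvd_mul hq).1 hd with h8 | h8
      · obtain ⟨L', H', i1, i2, i3, i4⟩ := ih (L.relIndex M) (by rw [hn, ← h3]; nlinarith [Nat.pos_of_ne_zero h6, Nat.two_le_iff _ |>.2 ⟨h7, h5⟩]) hL hM (hMH.trans hHO) hLM h8 rfl
        exact ⟨L', H', i1, i2, i3.trans hMH, i4⟩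
      · obtain ⟨L', H', i1, i2, i3, i4⟩ := ih (M.relIndex H) (by rw [hn, ← h3]; nlinarith [Nat.pos_of_ne_zero h7, Nat.two_le_iff _ |>.2 ⟨h6, h4⟩]) hM hH hHO hMH h8 rfl
        exact ⟨L', H', i1, hLM.trans i2, i3, i4⟩

theorem act_iff [Finite G] {d : ℕ} {L H : Subgroup G} :
    Act d L H ↔ ∃ q : ℕ, q.Prime ∧ q ∣ L.relIndex H ∧ q ∣ d := Nat.Prime.not_coprime_iff_dvd

/-- a chief factor with `Act d` between `L` and `H` -/
theorem exists_chf_act [Finite G] {O L H : Subgroup G} (hL : O ≤ normalizer (L : Set G))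
    (hH : O ≤ normalizer (H : Set G)) (hHO : H ≤ O) (hLH : L ≤ H) {d : ℕ} (h : Act d L H) :
    ∃ L' H' : Subgroup G, Chf O L' H' ∧ L ≤ L' ∧ H' ≤ H ∧ Act d L' H' := by
  obtain ⟨q, hq, hq1, hq2⟩ := act_iff.1 h
  obtain ⟨L', H', h1, h2, h3, h4⟩ := exists_chf hL hH hHO hLH hq hq1
  exact ⟨L', H', h1, h2, h3, act_iff.2 ⟨q, hq, h4, hq2⟩⟩

/-! ### C2: the case `O = C_O(N) A` -/

theorem relIndex_eq_of_cover [Finite G] {O T L : Subgroup G} (hTO : T ≤ O)
    (h : ∀ g ∈ O, ∃ t ∈ T, t⁻¹ * g ∈ L) : L.relIndex T = L.relIndex O := by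
  apply le_antisymm
  · exact relIndex_le_of_le_right hTO index_ne_zero_of_finite
  · let f : T ⧸ L.subgroupOf T → O ⧸ L.subgroupOf O :=
      Quotient.map' (fun t => (⟨t.1, hTO t.2⟩ : O)) (by
        intro a b hab
        rw [QuotientGroup.leftRel_apply] at hab ⊢
        exact mem_subgroupOf.1 hab)
    have hf : Function.Surjective f := by
      intro q
      induction q using Quotient.inductionOn' with
      | h g =>
        obtain ⟨t, ht, htg⟩ := h g.1 g.2
        refine ⟨Quotient.mk'' ⟨t, ht⟩, ?_⟩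
        apply Quotient.sound'
        rw [QuotientGroup.leftRel_apply]
        exact mem_subgroupOf.2 htg
    exact Nat.card_le_card_of_surjective f hf

section

variable {O A N : Subgroup G} (hAO : A ≤ O) (hNA : N ≤ A)
  (hO : ∀ g ∈ O, ∃ a ∈ A, ∃ c ∈ O ⊓ centralizer (N : Set G), g = a * c)

include hAO hO in
theorem norm_iff {K : Subgroup G} (hK : K ≤ N) : A ≤ normalizer (K : Set G) ↔ O ≤ normalizer (K : Set G) := by
  refine ⟨fun h g hg => ?_, fun h => hAO.trans h⟩
  obtain ⟨a, ha, c, hc, rfl⟩ := hO g hg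
  refine mul_mem (h ha) (cent_le_norm K ?_)
  rw [mem_centralizer_iff]
  exact fun k hk => mem_centralizer_iff.1 hc.2 k (hK hk)

include hAO hNA hO in
theorem chf_iff {L H : Subgroup G} (hH : H ≤ N) : Chf A L H ↔ Chf O L H := by
  constructor
  · intro h
    exact ⟨h.lt, (hH.trans hNA).trans hAO, (norm_iff hAO hO (h.lt.le.trans hH)).1 h.nL,
      (norm_iff hAO hO hH).1 h.nH, fun M hM h1 h2 => h.min M (hAO.trans hM) h1 h2⟩
  · intro h
    exact ⟨h.lt, hH.trans hNA, hAO.trans h.nL, hAO.trans h.nH,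
      fun M hM h1 h2 => h.min M ((norm_iff hAO hO (h2.trans hH)).1 hM) h1 h2⟩

include hAO hO in
theorem wt_eq [Finite G] {L H : Subgroup G} (hLH : L ≤ H) (hH : H ≤ N) : wt A L H = wt O L H := by
  rw [wt, wt]
  congr 2
  rw [CF_inf hAO, inf_comm, inf_relIndex_right]
  refine relIndex_eq_of_cover hAO fun g hg => ?_
  obtain ⟨a, ha, c, hc, rfl⟩ := hO g hg
  refine ⟨a, ha, ?_⟩
  rw [inv_mul_cancel_left]
  refine mem_CF.2 ⟨hc.1, cent_le_norm L ?_, fun h hh => ?_⟩
  · rw [mem_centralizer_iff]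
    exact fun k hk => mem_centralizer_iff.1 hc.2 k (hH (hLH hk))
  · have := mem_centralizer_iff.1 hc.2 h (hH hh)
    rw [commutatorElement_def, ← this, mul_inv_cancel_right, mul_inv_cancel]
    exact L.one_mem

end

end Resid

end Cfsg.Agent.R2.T3544

private theorem dce_28efc309acee : _root_.True := by
  try have : _root_.True := by simp only [_root_.Cfsg.Agent.R2.T3544.wt.eq_1]
  exact _root_.True.intro
end

-- part: R2/T3544/Chief2
section
prune_inst 0x20100000102210000018000020001c6292000002000b00000040000004c00c41a0450e20b060021011101474203e804810dc00090010000020008a00411c0080040020c29008b00001000040e802000000000000000000000000000000000000000000000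
set_option linter.all false
open scoped Cfsg.Agent.FastGrp

/-!
# S3544: moving chief factors up and down by a normal subgroup
-/

set_option autoImplicit false

namespace Cfsg.Agent.R2.T3544

open Subgroup
open scoped commutatorElement

variable {G : Type*} [Group G]

/-! ### normalizers -/

theorem nrm_iff {O X : Subgroup G} :
    O ≤ normalizer (X : Set G) ↔ ∀ g ∈ O, X.map (MulAut.conj g).toMonoidHom = X := by
  constructor
  · intro h g hg
    have h1 := mem_normalizer_iff.1 (h hg)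
    ext y
    constructor
    · rintro ⟨x, hx, rfl⟩
      exact (h1 x).1 hx
    · intro hy
      refine ⟨g⁻¹ * y * g, ?_, by show g * (g⁻¹ * y * g) * g⁻¹ = y; group⟩
      show g⁻¹ * y * g ∈ X
      rw [h1]
      have e : g * (g⁻¹ * y * g) * g⁻¹ = y := by group
      rwa [e]
  · intro h g hg
    rw [mem_normalizer_iff]
    intro x
    constructor
    · intro hx
      rw [← h g hg]
      exact ⟨x, hx, rfl⟩
    · intro hx
      rw [← h g hg] at hx
      obtain ⟨y, hy, hyx⟩ := hx
      have : y = x := mul_left_cancel (mul_right_cancel (show g * y * g⁻¹ = g * x * g⁻¹ from hyx))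
      rwa [← this]

theorem nrm_sup {O A B : Subgroup G} (hA : O ≤ normalizer (A : Set G)) (hB : O ≤ normalizer (B : Set G)) :
    O ≤ normalizer ((A ⊔ B : Subgroup G) : Set G) := by
  rw [nrm_iff] at *
  intro g hg
  rw [Subgroup.map_sup, hA g hg, hB g hg]

theorem nrm_inf {O A B : Subgroup G} (hA : O ≤ normalizer (A : Set G)) (hB : O ≤ normalizer (B : Set G)) :
    O ≤ normalizer ((A ⊓ B : Subgroup G) : Set G) := by
  rw [nrm_iff] at *
  intro g hg
  rw [Subgroup.map_inf _ _ _ (MulAut.conj g).injective, hA g hg, hB g hg]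

theorem nrm_comm {O A B : Subgroup G} (hA : O ≤ normalizer (A : Set G)) (hB : O ≤ normalizer (B : Set G)) :
    O ≤ normalizer ((⁅A, B⁆ : Subgroup G) : Set G) := by
  rw [nrm_iff] at *
  intro g hg
  rw [Subgroup.map_commutator, hA g hg, hB g hg]

theorem map_CF (O L H : Subgroup G) (g : G) :
    (CF O L H).map (MulAut.conj g).toMonoidHom = CF (O.map (MulAut.conj g).toMonoidHom)
      (L.map (MulAut.conj g).toMonoidHom) (H.map (MulAut.conj g).toMonoidHom) := by
  have key : ∀ (g : G) (O L H : Subgroup G), (CF O L H).map (MulAut.conj g).toMonoidHom ≤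
      CF (O.map (MulAut.conj g).toMonoidHom)
      (L.map (MulAut.conj g).toMonoidHom) (H.map (MulAut.conj g).toMonoidHom) := by
    rintro g O L H _ ⟨x, ⟨hx1, hx2, hx3⟩, rfl⟩
    refine ⟨⟨x, hx1, rfl⟩, ?_, ?_⟩
    · rw [mem_normalizer_iff] at hx2 ⊢
      intro y
      constructor
      · rintro ⟨z, hz, rfl⟩
        refine ⟨x * z * x⁻¹, (hx2 z).1 hz, ?_⟩
        show g * (x * z * x⁻¹) * g⁻¹ = (g * x * g⁻¹) * (g * z * g⁻¹) * (g * x * g⁻¹)⁻¹
        group
      · rintro ⟨z, hz, hzy⟩
        refine ⟨x⁻¹ * z * x, ?_, ?_⟩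
        · show x⁻¹ * z * x ∈ L
          rw [hx2]
          have e : x * (x⁻¹ * z * x) * x⁻¹ = z := by group
          rwa [e]
        · have h1 : g * z * g⁻¹ = (g * x * g⁻¹) * y * (g * x * g⁻¹)⁻¹ := hzy
          show g * (x⁻¹ * z * x) * g⁻¹ = y
          have h2 : g * (x⁻¹ * z * x) * g⁻¹ = (g * x * g⁻¹)⁻¹ * (g * z * g⁻¹) * (g * x * g⁻¹) := by group
          rw [h2, h1]
          group
    · rintro _ ⟨h, hh, rfl⟩
      refine ⟨⁅x, h⁆, hx3 h hh, ?_⟩
      exact map_commutatorElement _ _ _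
  apply le_antisymm (key g O L H)
  intro y hy
  have h1 := key g⁻¹ _ _ _ (Subgroup.mem_map_of_mem (MulAut.conj g⁻¹).toMonoidHom hy)
  have e : ∀ A : Subgroup G, (A.map (MulAut.conj g).toMonoidHom).map (MulAut.conj g⁻¹).toMonoidHom = A := by
    intro A
    rw [Subgroup.map_map]
    have : (MulAut.conj g⁻¹).toMonoidHom.comp (MulAut.conj g).toMonoidHom = MonoidHom.id G := by
      ext x
      simp [mul_assoc]
    rw [this, Subgroup.map_id]
  rw [e, e, e] at h1
  refine ⟨_, h1, ?_⟩
  show g * (g⁻¹ * y * g⁻¹⁻¹) * g⁻¹ = y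
  group

theorem nrm_CF {A O L H : Subgroup G} (hO : A ≤ normalizer (O : Set G)) (hL : A ≤ normalizer (L : Set G))
    (hH : A ≤ normalizer (H : Set G)) : A ≤ normalizer (CF O L H : Set G) := by
  rw [nrm_iff] at *
  intro g hg
  rw [map_CF, hO g hg, hL g hg, hH g hg]

theorem nrm_centralizer {A H : Subgroup G} (hH : A ≤ normalizer (H : Set G)) :
    A ≤ normalizer (centralizer (H : Set G) : Set G) := by
  have key : ∀ g ∈ A, ∀ c ∈ centralizer (H : Set G), g * c * g⁻¹ ∈ centralizer (H : Set G) := by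
    intro g hg c hc
    rw [mem_centralizer_iff] at hc ⊢
    intro h hh
    have h1 : g⁻¹ * h * g ∈ H := by
      have := (mem_normalizer_iff.1 (hH (A.inv_mem hg)) h).1 hh
      simpa using this
    have h2 := hc _ h1
    have : g⁻¹ * (h * (g * c * g⁻¹)) * g = g⁻¹ * (g * c * g⁻¹ * h) * g := by
      calc g⁻¹ * (h * (g * c * g⁻¹)) * g = (g⁻¹ * h * g) * c := by group
        _ = c * (g⁻¹ * h * g) := h2
        _ = _ := by group
    exact mul_left_cancel (mul_right_cancel this)
  intro g hg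
  rw [mem_normalizer_iff]
  intro c
  refine ⟨key g hg c, fun h => ?_⟩
  have h1 := key g⁻¹ (A.inv_mem hg) _ h
  have e : g⁻¹ * (g * c * g⁻¹) * g⁻¹⁻¹ = c := by group
  rwa [e] at h1

theorem comm_le_r {A B : Subgroup G} (h : A ≤ normalizer (B : Set G)) : ⁅A, B⁆ ≤ B := by
  rw [commutator_le]
  intro a ha b hb
  rw [commutatorElement_def]
  exact B.mul_mem ((mem_normalizer_iff.1 (h ha) b).1 hb) (B.inv_mem hb)

theorem comm_le_l {A B : Subgroup G} (h : B ≤ normalizer (A : Set G)) : ⁅A, B⁆ ≤ A := by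
  rw [commutator_comm]
  exact comm_le_r h

/-! ### products -/

theorem mem_sup_nl {H N : Subgroup G} (h : H ≤ normalizer (N : Set G)) {x : G} :
    x ∈ H ⊔ N ↔ ∃ a ∈ H, ∃ b ∈ N, a * b = x := by
  have h1 := coe_mul_of_left_le_normalizer_right H N h
  constructor
  · intro hx
    have : x ∈ ((H ⊔ N : Subgroup G) : Set G) := hx
    rw [h1] at this
    obtain ⟨a, ha, b, hb, hab⟩ := this
    exact ⟨a, ha, b, hb, hab⟩
  · rintro ⟨a, ha, b, hb, rfl⟩
    exact mul_mem (mem_sup_left ha) (mem_sup_right hb)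

theorem relIndex_sup_nl {K H : Subgroup G} (h : H ≤ normalizer (K : Set G)) :
    K.relIndex (H ⊔ K) = K.relIndex H := by
  have hKn : (K.subgroupOf (K ⊔ H)).Normal :=
    normal_subgroupOf_of_le_normalizer (sup_le le_normalizer h)
  have h1 := relIndex_sup_left (H.subgroupOf (K ⊔ H)) (K.subgroupOf (K ⊔ H))
  rw [← Subgroup.subgroupOf_sup le_sup_left le_sup_right, Subgroup.subgroupOf_self,
    Subgroup.relIndex_subgroupOf le_sup_right, relIndex_top_right] at h1
  rw [sup_comm, ← h1]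
  rfl

/-- Dedekind: `D ≤ M`, `H` normalises `D` -/
theorem dede {H D M : Subgroup G} (h : H ≤ normalizer (D : Set G)) (hD : D ≤ M) :
    (H ⊔ D) ⊓ M = (H ⊓ M) ⊔ D := by
  apply le_antisymm
  · rintro x ⟨hx1, hx2⟩
    obtain ⟨a, ha, b, hb, rfl⟩ := (mem_sup_nl h).1 hx1
    have : a ∈ M := by
      have := M.mul_mem hx2 (M.inv_mem (hD hb))
      rwa [mul_inv_cancel_right] at this
    exact mul_mem (mem_sup_left ⟨ha, this⟩) (mem_sup_right hb)
  · exact le_inf (sup_le_sup_right inf_le_left _) (sup_le inf_le_right hD)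

/-- Dedekind: `L ≤ M`, `L` normalises `D` -/
theorem dede' {L D M : Subgroup G} (h : L ≤ normalizer (D : Set G)) (hL : L ≤ M) :
    (L ⊔ D) ⊓ M = L ⊔ (D ⊓ M) := by
  apply le_antisymm
  · rintro x ⟨hx1, hx2⟩
    obtain ⟨a, ha, b, hb, rfl⟩ := (mem_sup_nl h).1 hx1
    have : b ∈ M := by
      have := M.mul_mem (M.inv_mem (hL ha)) hx2
      rwa [inv_mul_cancel_left] at this
    exact mul_mem (mem_sup_left ha) (mem_sup_right ⟨hb, this⟩)
  · exact le_inf (sup_le_sup_left inf_le_left _) (sup_le hL inf_le_right)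

/-! ### moving factors -/

section Moves

variable {O L H D : Subgroup G}

theorem Chf.lO (h : Chf O L H) : L ≤ O := h.lt.le.trans h.le

/-- either move up or move down by `D` -/
theorem Chf.alt (h : Chf O L H) (hD : O ≤ normalizer (D : Set G)) :
    H ⊓ (L ⊔ D) = L ∨ H ≤ L ⊔ D := by
  rcases h.min (H ⊓ (L ⊔ D)) (nrm_inf h.nH (nrm_sup h.nL hD)) (le_inf h.lt.le le_sup_left) inf_le_left with h1 | h1
  · exact Or.inl h1
  · exact Or.inr (inf_eq_left.1 h1)

theorem Chf.down_eq (h : Chf O L H) (hD : O ≤ normalizer (D : Set G)) (h1 : H ≤ L ⊔ D) :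
    (H ⊓ D) ⊔ L = H := by
  have h2 := dede' (h.lO.trans hD) h.lt.le
  rw [inf_eq_right.2 h1, inf_comm] at h2
  rw [sup_comm]
  exact h2.symm

theorem Chf.up (h : Chf O L H) (hD : O ≤ normalizer (D : Set G)) (hDO : D ≤ O) (h1 : H ⊓ (L ⊔ D) = L) :
    Chf O (L ⊔ D) (H ⊔ D) where
  lt := by
    refine lt_of_le_of_ne (sup_le_sup_right h.lt.le _) fun h2 => ?_
    have h3 : H ≤ L ⊔ D := by rw [h2]; exact le_sup_left
    rw [inf_eq_left.2 h3] at h1
    exact h.lt.ne h1.symm
  le := sup_le h.le hDO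
  nL := nrm_sup h.nL hD
  nH := nrm_sup h.nH hD
  min := by
    intro M hM h2 h3
    have h4 := dede (h.le.trans hD) (le_sup_right.trans h2)
    rw [inf_eq_right.2 h3] at h4
    rcases h.min (H ⊓ M) (nrm_inf h.nH hM) (le_inf h.lt.le (le_sup_left.trans h2)) inf_le_left with h5 | h5
    · left; rw [h4, h5]
    · right; rw [h4, h5]

theorem Chf.down (h : Chf O L H) (hD : O ≤ normalizer (D : Set G)) (h1 : H ≤ L ⊔ D) :
    Chf O (L ⊓ D) (H ⊓ D) where
  lt := by
    refine lt_of_le_of_ne (inf_le_inf_right _ h.lt.le) fun h2 => ?_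
    have h3 := h.down_eq hD h1
    rw [← h2, sup_eq_right.2 (inf_le_left : L ⊓ D ≤ L)] at h3
    exact h.lt.ne h3
  le := inf_le_left.trans h.le
  nL := nrm_inf h.nL hD
  nH := nrm_inf h.nH hD
  min := by
    intro M hM h2 h3
    have h3' : M ≤ H ⊓ D := h3
    have h4 : (M ⊔ L) ⊓ D = M := by
      have h5 := dede' (L := M) (D := L) (M := D) ((h3.trans inf_le_left).trans (h.le.trans h.nL)) (h3.trans inf_le_right)
      rw [h5]
      exact sup_eq_left.2 h2
    rcases h.min (M ⊔ L) (nrm_sup hM h.nL) le_sup_right (sup_le (h3.trans inf_le_left) h.lt.le) with h5 | h5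
    · left; rw [← h4, h5]
    · right; rw [← h4, h5]

/-- two factors `H/L ≅ H'/L'` with `H ⊓ L' = L`, `H ⊔ L' = H'` -/
structure Iso (O L H L' H' : Subgroup G) : Prop where
  inf : H ⊓ L' = L
  sup : H ⊔ L' = H'
  nL' : O ≤ normalizer (L' : Set G)
  nL : O ≤ normalizer (L : Set G)
  nH : O ≤ normalizer (H : Set G)
  le : H ≤ O
  lO' : L' ≤ O

theorem Chf.iso_up (h : Chf O L H) (hD : O ≤ normalizer (D : Set G)) (hDO : D ≤ O) (h1 : H ⊓ (L ⊔ D) = L) :
    Iso O L H (L ⊔ D) (H ⊔ D) :=
  ⟨h1, by rw [← sup_assoc, sup_eq_left.2 h.lt.le], nrm_sup h.nL hD, h.nL, h.nH, h.le, sup_le h.lO hDO⟩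

theorem Chf.iso_down (h : Chf O L H) (hD : O ≤ normalizer (D : Set G)) (h1 : H ≤ L ⊔ D) :
    Iso O (L ⊓ D) (H ⊓ D) L H :=
  ⟨by rw [inf_assoc, inf_comm D L, ← inf_assoc, inf_eq_right.2 h.lt.le], h.down_eq hD h1, h.nL,
    nrm_inf h.nL hD, nrm_inf h.nH hD, inf_le_left.trans h.le, h.lO⟩

variable {L' H' : Subgroup G}

theorem Iso.relIndex (h : Iso O L H L' H') : L'.relIndex H' = L.relIndex H := by
  rw [← h.sup, relIndex_sup_nl (h.le.trans h.nL'), ← h.inf, inf_relIndex_left]

theorem Iso.act (h : Iso O L H L' H') {d : ℕ} : Act d L' H' ↔ Act d L H := by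
  rw [Act, Act, h.relIndex]

theorem Iso.hH' (h : Iso O L H L' H') : H ≤ H' := h.sup ▸ le_sup_left

theorem Iso.hL (h : Iso O L H L' H') : L ≤ L' := h.inf ▸ inf_le_right

theorem Iso.CF_eq (h : Iso O L H L' H') : CF O L' H' = CF O L H := by
  apply le_antisymm
  · refine le_CF (CF_le _ _ _) ((CF_le _ _ _).trans h.nL) ?_
    rw [← h.inf]
    refine le_inf ?_ ?_
    · exact comm_le_r ((CF_le _ _ _).trans h.nH)
    · exact (commutator_mono le_rfl (h.sup ▸ le_sup_left)).trans (CF_comm O L' H')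
  · refine le_CF (CF_le _ _ _) ((CF_le _ _ _).trans h.nL') ?_
    rw [← h.sup]
    refine H231.commutator_sup_le (h.le.trans h.nL') le_normalizer ?_ ?_
    · exact (CF_comm O L H).trans h.hL
    · exact comm_le_r ((CF_le _ _ _).trans h.nL')

theorem Iso.comm (h : Iso O L H L' H') : ⁅H', H'⁆ ≤ L' ↔ ⁅H, H⁆ ≤ L := by
  constructor
  · intro h1
    rw [← h.inf]
    exact le_inf (comm_le_r le_normalizer) ((commutator_mono h.hH' h.hH').trans h1)
  · intro h1
    have hL : ⁅H, H⁆ ≤ L' := h1.trans h.hL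
    have hHn := h.le.trans h.nL'
    rw [← h.sup]
    refine H231.commutator_sup_le hHn le_normalizer ?_ ?_
    · refine H231.sup_commutator_le hHn le_normalizer hL (comm_le_l hHn)
    · exact comm_le_r (sup_le hHn le_normalizer)

theorem Iso.wt (h : Iso O L H L' H') : wt O L' H' = wt O L H := by
  classical
  have h1 := h.comm
  unfold T3544.wt
  rw [h.CF_eq]
  by_cases h2 : ⁅H, H⁆ ≤ L
  · rw [if_pos h2, if_pos (h1.2 h2)]
  · rw [if_neg h2, if_neg (fun h3 => h2 (h1.1 h3))]

/-- moving from `L` up over `D` or down into `D` -/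
theorem Chf.move (h : Chf O L H) (hD : O ≤ normalizer (D : Set G)) (hDO : D ≤ O) :
    (H ⊓ (L ⊔ D) = L ∧ Chf O (L ⊔ D) (H ⊔ D) ∧ Iso O L H (L ⊔ D) (H ⊔ D)) ∨
    (H ≤ L ⊔ D ∧ Chf O (L ⊓ D) (H ⊓ D) ∧ Iso O (L ⊓ D) (H ⊓ D) L H) := by
  rcases h.alt hD with h1 | h1
  · exact Or.inl ⟨h1, h.up hD hDO h1, h.iso_up hD hDO h1⟩
  · exact Or.inr ⟨h1, h.down hD h1, h.iso_down hD h1⟩

end Moves

end Cfsg.Agent.R2.T3544

private theorem dce_6580784ca24d : _root_.True := by
  try have : _root_.True := by simp only [_root_.Cfsg.Agent.R2.T3544.Act.eq_1]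
  exact _root_.True.intro
end

-- part: T44/Cl/AB
section
prune_inst 0x10000100542210000018000000001c42a2000002000b00000000000004880c4100010e20b000021011100064003c000000000009001000002000020041000080000020821000a00000000000a802000000000000000000000000000000000000000000000
set_option linter.all false
open scoped Cfsg.Agent.FastGrp

-- part: R2/T3544/Loc31
section
/-!
# S3544: the `r`-core at neighbouring points (FACTS 3.1, 3.2)

`RCore G r Q`: `Q x = O_r(G_x)` in the form needed: `Q` is a functor, `Q x` is an `r`-group containing all subnormal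
`r`-subgroups of `G_x`.  `WQ ρ Q x = ⟨Q y : y ~ x⟩`.
-/

set_option autoImplicit false

namespace Cfsg.Agent.R2.T3544

open Subgroup MulAction Cfsg
open scoped commutatorElement

variable {G : Type*} [Group G] {Ω : Type*} [MulAction G Ω] {Q : Ω → Subgroup G}

/-- `Q x = O_r(G_x)` -/
structure RCore (G : Type*) [Group G] {Ω : Type*} [MulAction G Ω] (r : ℕ) (Q : Ω → Subgroup G) : Prop where
  fn : Fun G Q
  pg : ∀ x, IsPGroup r (Q x)
  max : ∀ {x : Ω} {K : Subgroup G}, SubnIn K (stabilizer G x) → IsPGroup r K → K ≤ Q x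

section

variable [Finite G] {r : ℕ} {ra rb : Ω → Ω → Prop} {da db : ℕ}

end

end Cfsg.Agent.R2.T3544
end

-- part: R2/T3544/OffV
section
/-!
# S3544, LOC: minimal normal functors and Clifford

`MinFun G r Q V`: `V x` is a minimal normal subgroup of `G_x` inside `Ω_1 Z(Q x)`, equivariantly.
-/

set_option autoImplicit false

namespace Cfsg.Agent.R2.T3544

open Subgroup MulAction Cfsg
open scoped commutatorElement

section

variable {G : Type*} [Group G]

theorem map_conj_of_mem_normalizer {V : Subgroup G} {g : G} (hg : g ∈ normalizer (V : Set G)) :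
    V.map (MulAut.conj g).toMonoidHom = V := by
  apply le_antisymm
  · rintro _ ⟨v, hv, rfl⟩
    exact (mem_normalizer_iff.1 hg v).1 hv
  · intro v hv
    refine ⟨g⁻¹ * v * g, ?_, ?_⟩
    · have h1 := (mem_normalizer_iff.1 (inv_mem hg) v).1 hv
      rwa [inv_inv] at h1
    · show g * (g⁻¹ * v * g) * g⁻¹ = v
      group

theorem map_conj_mul (V : Subgroup G) (g h : G) : V.map (MulAut.conj (g * h)).toMonoidHom =
    (V.map (MulAut.conj h).toMonoidHom).map (MulAut.conj g).toMonoidHom := by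
  rw [Subgroup.map_map]
  congr 1
  ext x
  show g * h * x * (g * h)⁻¹ = g * (h * x * h⁻¹) * g⁻¹
  group

end

section

variable {G : Type*} [Group G] {Ω : Type*} [MulAction G Ω]

/-- a minimal normal subgroup of `G_x` inside `Ω_1 Z(Q x)`, equivariantly -/
structure MinFun (G : Type*) [Group G] {Ω : Type*} [MulAction G Ω] (r : ℕ) (Q V : Ω → Subgroup G) : Prop where
  fn : Fun G V
  ne : ∀ x, V x ≠ ⊥
  le : ∀ x, V x ≤ Q x
  cent : ∀ x, V x ≤ centralizer (Q x : Set G)
  pow : ∀ x, ∀ v ∈ V x, v ^ r = 1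
  min : ∀ (x : Ω) (K : Subgroup G), K ≤ V x → stabilizer G x ≤ normalizer (K : Set G) → K = ⊥ ∨ K = V x

end

end Cfsg.Agent.R2.T3544
end

-- part: R2/T3544/OffB
section
/-!
# S3544, local case: elementary abelian subgroups of maximal order

`JE r Q = J(Q)` and `YE r Q = Ω₁ Z(J(Q))` (the intersection of the elementary abelian subgroups of maximal order), for
subgroups of an ambient group.
-/

set_option autoImplicit false
set_option linter.unusedSectionVars false

namespace Cfsg.Agent.R2.T3544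

open Subgroup MulAction

variable {G : Type*} [Group G]

/-- elementary abelian -/
def IsEA (r : ℕ) (A : Subgroup G) : Prop := (∀ a ∈ A, ∀ b ∈ A, a * b = b * a) ∧ ∀ a ∈ A, a ^ r = 1

/-- elementary abelian of maximal order in `Q` -/
def MaxEA (r : ℕ) (Q A : Subgroup G) : Prop :=
  A ≤ Q ∧ IsEA r A ∧ ∀ B ≤ Q, IsEA r B → Nat.card B ≤ Nat.card A

/-- best offender -/
def BestOff (A V : Subgroup G) : Prop :=
  ∀ B ≤ A, Nat.card B * Nat.card (V ⊓ centralizer (B : Set G) : Subgroup G) ≤
    Nat.card A * Nat.card (V ⊓ centralizer (A : Set G) : Subgroup G)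

variable {r : ℕ} {Q R S K A B D : Subgroup G}

theorem IsEA.mono (h : IsEA r A) (hB : B ≤ A) : IsEA r B :=
  ⟨fun a ha b hb => h.1 a (hB ha) b (hB hb), fun a ha => h.2 a (hB ha)⟩

theorem IsEA.map {H : Type*} [Group H] (h : IsEA r A) (f : G →* H) : IsEA r (A.map f) := by
  constructor
  · rintro _ ⟨a, ha, rfl⟩ _ ⟨b, hb, rfl⟩
    rw [← map_mul, ← map_mul, h.1 a ha b hb]
  · rintro _ ⟨a, ha, rfl⟩
    rw [← map_pow, h.2 a ha, map_one]

theorem IsEA.isPGroup (h : IsEA r A) : IsPGroup r A := by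
  intro a
  refine ⟨1, ?_⟩
  rw [pow_one]
  exact Subtype.ext (h.2 a a.2)

/-- a product of two commuting elementary abelian subgroups -/
theorem IsEA.sup (hA : IsEA r A) (hB : IsEA r B) (h : ∀ a ∈ A, ∀ b ∈ B, a * b = b * a) : IsEA r (A ⊔ B) := by
  have hle : A ≤ normalizer (B : Set G) := by
    refine le_trans ?_ (cent_le_norm B)
    intro a ha
    rw [mem_centralizer_iff]
    exact fun b hb => (h a ha b hb).symm
  have hmem : ∀ x, x ∈ A ⊔ B → ∃ a ∈ A, ∃ b ∈ B, a * b = x := by
    intro x hx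
    have h1 : x ∈ ((A ⊔ B : Subgroup G) : Set G) := hx
    rw [coe_mul_of_left_le_normalizer_right _ _ hle] at h1
    exact Set.mem_mul.1 h1
  constructor
  · intro x hx y hy
    obtain ⟨a, ha, b, hb, rfl⟩ := hmem x hx
    obtain ⟨c, hc, d, hd, rfl⟩ := hmem y hy
    have e1 : b * c = c * b := (h c hc b hb).symm
    have e2 : a * c = c * a := hA.1 a ha c hc
    have e3 : b * d = d * b := hB.1 b hb d hd
    have e4 : d * a = a * d := (h a ha d hd).symm
    calc a * b * (c * d) = a * (b * c) * d := by group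
      _ = a * (c * b) * d := by rw [e1]
      _ = (a * c) * (b * d) := by group
      _ = (c * a) * (d * b) := by rw [e2, e3]
      _ = c * (a * d) * b := by group
      _ = c * (d * a) * b := by rw [e4]
      _ = c * d * (a * b) := by group
  · intro x hx
    obtain ⟨a, ha, b, hb, rfl⟩ := hmem x hx
    have e : Commute a b := h a ha b hb
    rw [e.mul_pow, hA.2 a ha, hB.2 b hb, one_mul]

section fin

variable [Finite G]

/-- conjugation -/
theorem MaxEA.conj (h : MaxEA r Q A) (g : G) :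
    MaxEA r (Q.map (MulAut.conj g).toMonoidHom) (A.map (MulAut.conj g).toMonoidHom) := by
  refine ⟨map_mono h.1, h.2.1.map _, fun B hB hB' => ?_⟩
  have h1 : B.map (MulAut.conj g⁻¹).toMonoidHom ≤ Q := by
    have h2 := map_mono (f := (MulAut.conj g⁻¹).toMonoidHom) hB
    refine h2.trans (le_of_eq ?_)
    exact map_map_conj_inv Q g
  have h2 := h.2.2 _ h1 (hB'.map _)
  rw [card_map_of_injective (MulAut.conj g⁻¹).injective] at h2
  rwa [card_map_of_injective (MulAut.conj g).injective]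

end fin

end Cfsg.Agent.R2.T3544
end

-- part: R2/T3544/OffA
section
/-!
# S3544, LOC: the size lemma (best offenders and commuting normal subgroups)
-/

set_option autoImplicit false

namespace Cfsg.Agent.R2.T3544

open Subgroup
open scoped commutatorElement

variable {G : Type*} [Group G]

/-- minimal non-trivial `X`-invariant subgroup -/
def MinInv (X N : Subgroup G) : Prop :=
  N ≠ ⊥ ∧ X ≤ normalizer (N : Set G) ∧ ∀ K ≤ N, X ≤ normalizer (K : Set G) → K = ⊥ ∨ K = N

theorem norm_map_conj {X N : Subgroup G} (h : X ≤ normalizer (N : Set G)) {g : G}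
    (hg : g ∈ normalizer (X : Set G)) :
    X ≤ normalizer ((N.map (MulAut.conj g).toMonoidHom : Subgroup G) : Set G) := by
  refine le_normalizer_of_map_le fun x hx => ?_
  have h1 : g⁻¹ * x * g ∈ X := by
    have := (mem_normalizer_iff.1 (inv_mem hg) x).1 hx
    rwa [inv_inv] at this
  have e : x * g = g * (g⁻¹ * x * g) := by group
  rw [← map_conj_mul, e, map_conj_mul, map_conj_of_mem_normalizer (h h1)]

theorem norm_inf_off {X A B : Subgroup G} (hA : X ≤ normalizer (A : Set G)) (hB : X ≤ normalizer (B : Set G)) :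
    X ≤ normalizer ((A ⊓ B : Subgroup G) : Set G) :=
  le_normalizer_of_map_le fun g hg => le_inf
    ((map_mono inf_le_left).trans (map_conj_of_mem_normalizer (hA hg)).le)
    ((map_mono inf_le_right).trans (map_conj_of_mem_normalizer (hB hg)).le)

theorem norm_sup_off {X A B : Subgroup G} (hA : X ≤ normalizer (A : Set G)) (hB : X ≤ normalizer (B : Set G)) :
    X ≤ normalizer ((A ⊔ B : Subgroup G) : Set G) :=
  le_normalizer_of_map_le fun g hg => by
    rw [Subgroup.map_sup, map_conj_of_mem_normalizer (hA hg), map_conj_of_mem_normalizer (hB hg)]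

theorem norm_comm_off {X A B : Subgroup G} (hA : X ≤ normalizer (A : Set G)) (hB : X ≤ normalizer (B : Set G)) :
    X ≤ normalizer ((⁅A, B⁆ : Subgroup G) : Set G) :=
  le_normalizer_of_map_le fun g hg => by
    rw [Subgroup.map_commutator, map_conj_of_mem_normalizer (hA hg), map_conj_of_mem_normalizer (hB hg)]

theorem map_conj_inv_conj (K : Subgroup G) (g : G) :
    (K.map (MulAut.conj g⁻¹).toMonoidHom).map (MulAut.conj g).toMonoidHom = K := by
  rw [← map_conj_mul, mul_inv_cancel]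
  exact map_conj_of_mem_normalizer (one_mem _)

theorem MinInv.conj {X N : Subgroup G} (h : MinInv X N) {g : G} (hg : g ∈ normalizer (X : Set G)) :
    MinInv X (N.map (MulAut.conj g).toMonoidHom) := by
  refine ⟨fun h1 => h.1 ((map_eq_bot_iff_of_injective _ (MulAut.conj g).injective).1 h1),
    norm_map_conj h.2.1 hg, fun K hK hn => ?_⟩
  have h1 : K.map (MulAut.conj g⁻¹).toMonoidHom ≤ N := by
    have h2 := map_mono (f := (MulAut.conj g⁻¹).toMonoidHom) hK
    rw [← map_conj_mul, inv_mul_cancel, map_conj_of_mem_normalizer (one_mem _)] at h2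
    exact h2
  rcases h.2.2 _ h1 (norm_map_conj hn (inv_mem hg)) with h3 | h3
  · left
    exact (map_eq_bot_iff_of_injective _ (MulAut.conj g⁻¹).injective).1 h3
  · right
    rw [← h3, map_conj_inv_conj]

/-- Clifford -/
theorem MinInv.le_of_conj_le {S V N W : Subgroup G} (hV : MinInv S V) (hNV : N ≤ V) (hN : N ≠ ⊥)
    (h : ∀ s ∈ S, N.map (MulAut.conj s).toMonoidHom ≤ W) : V ≤ W := by
  set K : Subgroup G := ⨆ s : S, N.map (MulAut.conj (s : G)).toMonoidHom with hK
  have h1 : K ≤ V := iSup_le fun s => by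
    have := map_mono (f := (MulAut.conj (s : G)).toMonoidHom) hNV
    rwa [map_conj_of_mem_normalizer (hV.2.1 s.2)] at this
  have h2 : S ≤ normalizer (K : Set G) := by
    refine le_normalizer_of_map_le fun t ht => ?_
    rw [hK, Subgroup.map_iSup]
    refine iSup_le fun s => ?_
    rw [← map_conj_mul]
    exact (le_iSup (fun s : S => N.map (MulAut.conj (s : G)).toMonoidHom) (⟨t, ht⟩ * s :) :)
  have h3 : N ≤ K := by
    have h4 : N.map (MulAut.conj ((1 : S) : G)).toMonoidHom ≤ K :=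
      le_iSup (fun s : S => N.map (MulAut.conj (s : G)).toMonoidHom) 1
    have h5 : N.map (MulAut.conj ((1 : S) : G)).toMonoidHom = N := map_conj_of_mem_normalizer (one_mem _)
    rwa [h5] at h4
  rcases hV.2.2 K h1 h2 with h4 | h4
  · exact absurd (le_bot_iff.1 (h4 ▸ h3)) hN
  · rw [← h4]
    exact iSup_le fun s => h s s.2

theorem card_sup_inf_le {A B : Subgroup G} [Finite G] (h : A ≤ normalizer (B : Set G)) :
    Nat.card (A ⊔ B : Subgroup G) * Nat.card (A ⊓ B : Subgroup G) = Nat.card A * Nat.card B := by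
  have h1 := relIndex_sup_nl h
  have h2 : Nat.card B * B.relIndex (A ⊔ B) = Nat.card (A ⊔ B : Subgroup G) := by
    have := card_mul_index (B.subgroupOf (A ⊔ B))
    rw [Nat.card_congr (subgroupOfEquivOfLe (le_sup_right : B ≤ A ⊔ B)).toEquiv] at this
    exact this
  have h3 : Nat.card (A ⊓ B : Subgroup G) * B.relIndex A = Nat.card A := by
    have := card_mul_index (B.subgroupOf A)
    rw [← inf_subgroupOf_left, Nat.card_congr (subgroupOfEquivOfLe (inf_le_left : A ⊓ B ≤ A)).toEquiv] at this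
    rw [← this]
    congr 1
    rw [relIndex, inf_subgroupOf_left]
  rw [← h2, h1, ← h3]
  ring

/-- quotients of submodules are at least as large as the irreducible submodules -/
theorem MinInv.card_quot_le [Finite G] {S V X N U₁ U₂ : Subgroup G} (hV : MinInv S V)
    (hc : ∀ a ∈ V, ∀ b ∈ V, a * b = b * a) (hSX : S ≤ normalizer (X : Set G)) (hXV : X ≤ normalizer (V : Set G))
    (hN : MinInv X N) (hNV : N ≤ V)
    (h1 : X ≤ normalizer (U₁ : Set G)) (h2 : X ≤ normalizer (U₂ : Set G)) (h12 : U₁ ≤ U₂) (hne : ¬ U₂ ≤ U₁)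
    (h2V : U₂ ≤ V) : Nat.card N * Nat.card U₁ ≤ Nat.card U₂ := by
  have hcn : ∀ {A B : Subgroup G}, A ≤ V → B ≤ V → A ≤ normalizer (B : Set G) := fun {A B} hA hB =>
    le_trans (fun a ha => mem_centralizer_iff.2 fun b hb => hc b (hB hb) a (hA ha)) (cent_le_norm B)
  obtain ⟨W, hW, hmax⟩ := (Set.toFinite {W : Subgroup G | W ≤ V ∧ X ≤ normalizer (W : Set G) ∧ U₁ ≤ W ∧
    W ⊓ U₂ ≤ U₁}).exists_le_maximal (a := U₁) ⟨h12.trans h2V, h1, le_rfl, inf_le_left⟩
  obtain ⟨hWV, hWX, hUW, hWU⟩ := hmax.prop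
  -- a conjugate of `N` outside `W`
  have h3 : ∃ s ∈ S, ¬ N.map (MulAut.conj s).toMonoidHom ≤ W := by
    by_contra hcon
    push Not at hcon
    have h4 := hV.le_of_conj_le hNV hN.1 hcon
    exact hne (le_trans (le_inf (h2V.trans h4) le_rfl) hWU)
  obtain ⟨s, hs, hsW⟩ := h3
  set M := N.map (MulAut.conj s).toMonoidHom with hM
  have hMm : MinInv X M := hN.conj (hSX hs)
  have hMV : M ≤ V := by
    have := map_mono (f := (MulAut.conj s).toMonoidHom) hNV
    rwa [map_conj_of_mem_normalizer (hV.2.1 hs)] at this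
  have hMW : M ⊓ W = ⊥ := by
    rcases hMm.2.2 (M ⊓ W) inf_le_left (norm_inf_off hMm.2.1 hWX) with h4 | h4
    · exact h4
    · exact absurd (inf_eq_left.1 h4) hsW
  have h5 : ¬ ((M ⊔ W) ⊓ U₂ ≤ U₁) := by
    intro hcon
    have h6 : M ⊔ W ≤ W := hmax.le_of_ge ⟨sup_le hMV hWV, norm_sup_off hMm.2.1 hWX, hUW.trans le_sup_right, hcon⟩
      le_sup_right
    exact hsW (le_sup_left.trans h6)
  obtain ⟨u, ⟨hu1, hu2⟩, hu3⟩ := SetLike.not_le_iff_exists.1 h5
  obtain ⟨m, hm, w, hw, rfl⟩ := (mem_sup_nl (hcn hMV hWV)).1 hu1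
  have hm1 : m ≠ 1 := by
    rintro rfl
    rw [one_mul] at hu2 hu3
    exact hu3 (hWU ⟨hw, hu2⟩)
  have hmU : m ∈ W ⊔ U₂ := by
    have e : m = (m * w) * w⁻¹ := by group
    rw [e]
    exact mul_mem (mem_sup_right hu2) (mem_sup_left (inv_mem hw))
  have h7 : M ≤ W ⊔ U₂ := by
    rcases hMm.2.2 (M ⊓ (W ⊔ U₂)) inf_le_left (norm_inf_off hMm.2.1 (norm_sup_off hWX h2)) with h8 | h8
    · exact absurd (mem_bot.1 (h8 ▸ (⟨hm, hmU⟩ : m ∈ M ⊓ (W ⊔ U₂)))) hm1
    · exact inf_eq_left.1 h8
  have h9 := card_sup_inf_le (hcn hMV hWV)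
  rw [hMW, card_bot, mul_one] at h9
  have h10 := card_sup_inf_le (hcn hWV h2V)
  have h11 : W ⊓ U₂ = U₁ := le_antisymm hWU (le_inf hUW h12)
  rw [h11] at h10
  have h12' : Nat.card (M ⊔ W : Subgroup G) ≤ Nat.card (W ⊔ U₂ : Subgroup G) :=
    Nat.le_of_dvd Nat.card_pos (card_dvd_of_le (sup_le h7 le_sup_left))
  have h13 : Nat.card M = Nat.card N := card_map_of_injective (MulAut.conj s).injective
  have hWpos : 0 < Nat.card W := Nat.card_pos
  have h14 : (Nat.card N * Nat.card U₁) * Nat.card W ≤ Nat.card U₂ * Nat.card W := by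
    calc (Nat.card N * Nat.card U₁) * Nat.card W = (Nat.card M * Nat.card W) * Nat.card U₁ := by rw [h13]; ring
      _ ≤ Nat.card (W ⊔ U₂ : Subgroup G) * Nat.card U₁ := by rw [← h9]; exact Nat.mul_le_mul_right _ h12'
      _ = Nat.card U₂ * Nat.card W := by rw [h10]; ring
  exact Nat.le_of_mul_le_mul_right h14 hWpos

/-- an `r`-group acting on an `r`-group: elements with central commutator -/
theorem exists_comm_cent [Finite G] {r : ℕ} [Fact r.Prime] {A : Subgroup G} (hA : IsPGroup r A) :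
    ∀ (n : ℕ) (U : Subgroup G), Nat.card U ≤ n → IsPGroup r U → A ≤ normalizer (U : Set G) →
      ¬ U ≤ centralizer (A : Set G) →
      ∃ v ∈ U, v ∉ centralizer (A : Set G) ∧ ∀ a ∈ A, ⁅v, a⁆ ∈ U ⊓ centralizer (A : Set G) := by
  intro n
  induction n with
  | zero =>
    intro U hU
    have : 0 < Nat.card U := Nat.card_pos
    omega
  | succ n ih =>
    intro U hUn hU hn h
    have h0 : ⁅U, A⁆ ≤ U := comm_le_l hn
    by_cases h1 : ⁅U, A⁆ ≤ centralizer (A : Set G)
    · obtain ⟨v, hv, hvc⟩ := SetLike.not_le_iff_exists.1 h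
      exact ⟨v, hv, hvc, fun a ha => ⟨h0 (commutator_mem_commutator hv ha), h1 (commutator_mem_commutator hv ha)⟩⟩
    · have h2 : ¬ U ≤ ⁅U, A⁆ := by
        intro h3
        have hP : IsPGroup r (U ⊔ A : Subgroup G) := hU.to_sup_of_normal_left' hA hn
        have hnil : Group.IsNilpotent (U ⊔ A : Subgroup G) := hP.isNilpotent
        obtain ⟨k, hk⟩ := (isNilpotent_iff_lowerCentralSeries _).1 hnil
        have key : ∀ k : ℕ, U ≤ (U ⊔ A).lowerCentralSeries k := by
          intro k
          induction k with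
          | zero => exact le_sup_left
          | succ k ihk =>
            rw [Subgroup.lowerCentralSeries_succ]
            exact h3.trans (commutator_mono ihk le_sup_right)
        have h4 := key k
        rw [hk] at h4
        exact h (h4.trans bot_le)
      have h5 : Nat.card (⁅U, A⁆ : Subgroup G) < Nat.card U := by
        refine lt_of_le_of_ne (Nat.le_of_dvd Nat.card_pos (card_dvd_of_le h0)) fun h6 => h2 ?_
        exact (eq_of_le_of_card_ge h0 h6.ge).ge
      obtain ⟨v, hv, hvc, hva⟩ := ih ⁅U, A⁆ (by omega) (hU.to_le h0) (norm_comm_off hn le_normalizer) h1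
      exact ⟨v, h0 hv, hvc, fun a ha => ⟨h0 (hva a ha).1, (hva a ha).2⟩⟩

/-- the orbit of `v`: `|A : C_A(v)| ≤ |C_U(A)|` -/
theorem card_le_cent [Finite G] {A U : Subgroup G} {v : G}
    (h : ∀ a ∈ A, ⁅v, a⁆ ∈ U ⊓ centralizer (A : Set G)) :
    Nat.card A ≤ Nat.card (A ⊓ centralizer ({v} : Set G) : Subgroup G) *
      Nat.card (U ⊓ centralizer (A : Set G) : Subgroup G) := by
  let φ : A →* G :=
    { toFun := fun a => ⁅v, (a : G)⁆
      map_one' := by simp
      map_mul' := by
        intro a b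
        have h1 := mem_centralizer_iff.1 (h b b.2).2 a a.2
        have e : ⁅v, ((a * b : A) : G)⁆ = ⁅v, (a : G)⁆ * ((a : G) * ⁅v, (b : G)⁆ * (a : G)⁻¹) := by
          simp only [commutatorElement_def, Subgroup.coe_mul]; group
        rw [e, h1, mul_inv_cancel_right] }
  have h1 := Subgroup.card_eq_card_quotient_mul_card_subgroup φ.ker
  have h2 : Nat.card (A ⧸ φ.ker) = Nat.card φ.range := Nat.card_congr (QuotientGroup.quotientKerEquivRange φ).toEquiv
  have h3 : φ.range ≤ U ⊓ centralizer (A : Set G) := by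
    rintro _ ⟨a, rfl⟩
    exact h a a.2
  have h4 : Nat.card φ.ker ≤ Nat.card (A ⊓ centralizer ({v} : Set G) : Subgroup G) := by
    have h5 : φ.ker.map A.subtype ≤ A ⊓ centralizer ({v} : Set G) := by
      rintro _ ⟨a, ha, rfl⟩
      refine ⟨a.2, mem_centralizer_iff.2 fun y hy => ?_⟩
      rw [Set.mem_singleton_iff.1 hy]
      have h6 : ⁅v, (a : G)⁆ = 1 := ha
      exact commutatorElement_eq_one_iff_mul_comm.1 h6
    have h6 : Nat.card (φ.ker.map A.subtype) = Nat.card φ.ker := card_map_of_injective A.subtype_injective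
    rw [← h6]
    exact Nat.le_of_dvd Nat.card_pos (card_dvd_of_le h5)
  rw [h1, h2, mul_comm]
  exact Nat.mul_le_mul h4 (Nat.le_of_dvd Nat.card_pos (card_dvd_of_le h3))

/-- `D ⊓ C(B)` is `X₂`-invariant -/
theorem norm_inf_cent {V X₁ X₂ B D : Subgroup G} (hcomm : ⁅X₁, X₂⁆ ≤ centralizer (V : Set G)) (hB : B ≤ X₁)
    (hDV : D ≤ V) (hD : X₂ ≤ normalizer (D : Set G)) :
    X₂ ≤ normalizer ((D ⊓ centralizer (B : Set G) : Subgroup G) : Set G) := by
  refine le_normalizer_of_map_le fun x hx => ?_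
  rintro _ ⟨d, ⟨hd1, hd2⟩, rfl⟩
  have h1 : x * d * x⁻¹ ∈ D := (mem_normalizer_iff.1 (hD hx) d).1 hd1
  refine ⟨h1, mem_centralizer_iff.2 fun b hb => ?_⟩
  have h2 : ⁅b, x⁆ ∈ centralizer (V : Set G) := hcomm (commutator_mem_commutator (hB hb) hx)
  have h3 : x * d * x⁻¹ * ⁅b, x⁆ = ⁅b, x⁆ * (x * d * x⁻¹) := mem_centralizer_iff.1 h2 _ (hDV h1)
  have h4 : b * d = d * b := mem_centralizer_iff.1 hd2 b hb
  show b * (x * d * x⁻¹) = x * d * x⁻¹ * b
  have e1 : b * (x * d * x⁻¹) * b⁻¹ = ⁅b, x⁆ * (x * (b * d * b⁻¹) * x⁻¹) * ⁅b, x⁆⁻¹ := by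
    rw [commutatorElement_def]; group
  have e2 : b * d * b⁻¹ = d := by rw [h4, mul_inv_cancel_right]
  rw [e2, ← h3, mul_inv_cancel_right] at e1
  exact mul_inv_eq_iff_eq_mul.1 e1

/-- **the size lemma**, for one irreducible constituent -/
theorem size_aux [Finite G] {r : ℕ} [Fact r.Prime] {S V X₁ X₂ A D N N₂ : Subgroup G}
    (hV : MinInv S V) (hEA : IsEA r V) (hS2 : S ≤ normalizer (X₂ : Set G)) (hX2 : X₂ ≤ S)
    (hcomm : ⁅X₁, X₂⁆ ≤ centralizer (V : Set G)) (hAX : A ≤ X₁) (hA : IsPGroup r A) (hDV : D ≤ V)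
    (hDA : A ≤ normalizer (D : Set G)) (hD2 : X₂ ≤ normalizer (D : Set G)) (hbest : BestOff A D)
    (hN : MinInv X₁ N) (hnc : ¬ N ⊓ D ≤ centralizer (A : Set G)) (hN2 : MinInv X₂ N₂) (hN2V : N₂ ≤ V) :
    Nat.card N₂ < Nat.card N := by
  have hU : IsPGroup r (N ⊓ D : Subgroup G) := (hEA.mono (inf_le_right.trans hDV)).isPGroup
  obtain ⟨v, hv, hvc, hva⟩ := exists_comm_cent hA _ (N ⊓ D) le_rfl hU (norm_inf_off (hAX.trans hN.2.1) hDA) hnc
  have h1 := card_le_cent hva
  set B := A ⊓ centralizer ({v} : Set G) with hB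
  have h2 := hbest B inf_le_left
  have h3 : Nat.card N₂ * Nat.card (D ⊓ centralizer (A : Set G) : Subgroup G) ≤
      Nat.card (D ⊓ centralizer (B : Set G) : Subgroup G) := by
    refine hV.card_quot_le hEA.1 hS2 (hX2.trans hV.2.1) hN2 hN2V (norm_inf_cent hcomm hAX hDV hD2)
      (norm_inf_cent hcomm (inf_le_left.trans hAX) hDV hD2)
      (inf_le_inf_left D (centralizer_le (inf_le_left : B ≤ A))) (fun h4 => hvc ?_) (inf_le_left.trans hDV)
    refine (h4 ⟨hv.2, mem_centralizer_iff.2 fun b hb => ?_⟩).2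
    have := mem_centralizer_iff.1 hb.2 v rfl
    exact this.symm
  have h4 : Nat.card ((N ⊓ D) ⊓ centralizer (A : Set G) : Subgroup G) < Nat.card N := by
    refine lt_of_lt_of_le ?_ (Nat.le_of_dvd Nat.card_pos (card_dvd_of_le (inf_le_left : N ⊓ D ≤ N)))
    refine lt_of_le_of_ne (Nat.le_of_dvd Nat.card_pos (card_dvd_of_le inf_le_left)) fun h6 => hnc ?_
    exact inf_eq_left.1 (eq_of_le_of_card_ge inf_le_left h6.ge)
  have hBpos : 0 < Nat.card B := Nat.card_pos
  have hCpos : 0 < Nat.card (D ⊓ centralizer (A : Set G) : Subgroup G) := Nat.card_pos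
  have h5 : (Nat.card N₂) * (Nat.card B * Nat.card (D ⊓ centralizer (A : Set G) : Subgroup G)) ≤
      Nat.card ((N ⊓ D) ⊓ centralizer (A : Set G) : Subgroup G) *
        (Nat.card B * Nat.card (D ⊓ centralizer (A : Set G) : Subgroup G)) := by
    calc (Nat.card N₂) * (Nat.card B * Nat.card (D ⊓ centralizer (A : Set G) : Subgroup G))
        = Nat.card B * (Nat.card N₂ * Nat.card (D ⊓ centralizer (A : Set G) : Subgroup G)) := by ring
      _ ≤ Nat.card B * Nat.card (D ⊓ centralizer (B : Set G) : Subgroup G) := Nat.mul_le_mul_left _ h3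
      _ ≤ Nat.card A * Nat.card (D ⊓ centralizer (A : Set G) : Subgroup G) := h2
      _ ≤ (Nat.card B * Nat.card ((N ⊓ D) ⊓ centralizer (A : Set G) : Subgroup G)) *
          Nat.card (D ⊓ centralizer (A : Set G) : Subgroup G) := Nat.mul_le_mul_right _ h1
      _ = _ := by ring
  exact lt_of_le_of_lt (Nat.le_of_mul_le_mul_right h5 (Nat.mul_pos hBpos hCpos)) h4

/-- **the size lemma** -/
theorem size_lemma [Finite G] {r : ℕ} [Fact r.Prime] {S V X₁ X₂ A B D N₁ N₂ : Subgroup G}
    (hV : MinInv S V) (hEA : IsEA r V) (hS1 : S ≤ normalizer (X₁ : Set G)) (hS2 : S ≤ normalizer (X₂ : Set G))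
    (hX1 : X₁ ≤ S) (hX2 : X₂ ≤ S) (hcomm : ⁅X₁, X₂⁆ ≤ centralizer (V : Set G)) (hAB : A ≤ B) (hBX : B ≤ X₁)
    (hA : IsPGroup r A) (hD : D = V ∨ D = ⁅V, B⁆) (hbest : BestOff A D) (hnc : ¬ D ≤ centralizer (A : Set G))
    (hN1 : MinInv X₁ N₁) (hN1V : N₁ ≤ V) (hN2 : MinInv X₂ N₂) (hN2V : N₂ ≤ V) : Nat.card N₂ < Nat.card N₁ := by
  have hBV : B ≤ normalizer (V : Set G) := (hBX.trans hX1).trans hV.2.1
  have hDV : D ≤ V := by
    rcases hD with rfl | rfl
    · exact le_rfl
    · exact comm_le_l hBV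
  have hDB : B ≤ normalizer (D : Set G) := by
    rcases hD with rfl | rfl
    · exact hBV
    · exact norm_comm_off hBV le_normalizer
  have hD2 : X₂ ≤ normalizer (D : Set G) := by
    rcases hD with rfl | rfl
    · exact hX2.trans hV.2.1
    · refine le_normalizer_of_map_le fun x hx => ?_
      rw [Subgroup.map_commutator, map_conj_of_mem_normalizer (hV.2.1 (hX2 hx)), commutator_le]
      rintro v hv _ ⟨b, hb, rfl⟩
      show ⁅v, x * b * x⁻¹⁆ ∈ _
      have h2 : ⁅b⁻¹, x⁆ ∈ centralizer (V : Set G) :=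
        hcomm (commutator_mem_commutator (hBX (inv_mem hb)) hx)
      have h3 : v * ⁅b⁻¹, x⁆ = ⁅b⁻¹, x⁆ * v := mem_centralizer_iff.1 h2 v hv
      have e : ⁅v, x * b * x⁻¹⁆ = ⁅v, b⁆ := by
        have e1 : x * b * x⁻¹ = b * ⁅b⁻¹, x⁆ := by rw [commutatorElement_def]; group
        have e2 : ⁅v, b * ⁅b⁻¹, x⁆⁆ = ⁅v, b⁆ * (b * (v * ⁅b⁻¹, x⁆ * v⁻¹ * ⁅b⁻¹, x⁆⁻¹) * b⁻¹) := by
          rw [commutatorElement_def, commutatorElement_def v b]; group
        rw [e1, e2, h3]; group
      rw [e]
      exact commutator_mem_commutator hv hb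
  -- a constituent not centralized
  have key : ∃ s ∈ S, ¬ (N₁.map (MulAut.conj s).toMonoidHom) ⊓ D ≤ centralizer (A : Set G) := by
    by_contra hcon
    push Not at hcon
    apply hnc
    rcases hD with rfl | rfl
    · refine hV.le_of_conj_le hN1V hN1.1 fun s hs => ?_
      have h1 : N₁.map (MulAut.conj s).toMonoidHom ≤ D := by
        have := map_mono (f := (MulAut.conj s).toMonoidHom) hN1V
        rwa [map_conj_of_mem_normalizer (hV.2.1 hs)] at this
      exact (le_inf le_rfl h1).trans (hcon s hs)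
    · -- the subgroup of all `v` with `[v, B] ≤ C(A)`
      let W : Subgroup G :=
        { carrier := {v | v ∈ V ∧ ∀ b ∈ B, ⁅v, b⁆ ∈ centralizer (A : Set G)}
          one_mem' := ⟨one_mem _, fun b _ => by rw [commutatorElement_one_left]; exact one_mem _⟩
          mul_mem' := by
            rintro v w ⟨hv, hv'⟩ ⟨hw, hw'⟩
            refine ⟨mul_mem hv hw, fun b hb => ?_⟩
            have h1 : ⁅w, b⁆ ∈ V := comm_le_l hBV (commutator_mem_commutator hw hb)
            have h2 : v * ⁅w, b⁆ = ⁅w, b⁆ * v := hEA.1 _ hv _ h1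
            have e : ⁅v * w, b⁆ = v * ⁅w, b⁆ * v⁻¹ * ⁅v, b⁆ := by
              simp only [commutatorElement_def]; group
            rw [e, h2, mul_inv_cancel_right]
            exact mul_mem (hw' b hb) (hv' b hb)
          inv_mem' := by
            rintro v ⟨hv, hv'⟩
            refine ⟨inv_mem hv, fun b hb => ?_⟩
            have h1 : ⁅v, b⁆⁻¹ ∈ V := inv_mem (comm_le_l hBV (commutator_mem_commutator hv hb))
            have h2 : v⁻¹ * ⁅v, b⁆⁻¹ = ⁅v, b⁆⁻¹ * v⁻¹ := hEA.1 _ (inv_mem hv) _ h1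
            have e : ⁅v⁻¹, b⁆ = v⁻¹ * ⁅v, b⁆⁻¹ * v := by
              simp only [commutatorElement_def]; group
            rw [e, h2, inv_mul_cancel_right]
            exact inv_mem (hv' b hb) }
      have hW : V ≤ W := by
        refine hV.le_of_conj_le hN1V hN1.1 fun s hs => ?_
        have h1 : N₁.map (MulAut.conj s).toMonoidHom ≤ V := by
          have := map_mono (f := (MulAut.conj s).toMonoidHom) hN1V
          rwa [map_conj_of_mem_normalizer (hV.2.1 hs)] at this
        have h2 : X₁ ≤ normalizer ((N₁.map (MulAut.conj s).toMonoidHom : Subgroup G) : Set G) :=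
          norm_map_conj hN1.2.1 (hS1 hs)
        intro v hv
        refine ⟨h1 hv, fun b hb => hcon s hs ⟨?_, commutator_mem_commutator (h1 hv) hb⟩⟩
        exact comm_le_l (hBX.trans h2) (commutator_mem_commutator hv hb)
      rw [commutator_le]
      exact fun v hv b hb => (hW hv).2 b hb
  obtain ⟨s, hs, hs'⟩ := key
  have h1 := size_aux hV hEA hS2 hX2 hcomm (hAB.trans hBX) hA hDV (hAB.trans hDB) hD2 hbest
    (hN1.conj (hS1 hs)) hs' hN2 hN2V
  rwa [card_map_of_injective (MulAut.conj s).injective] at h1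

end Cfsg.Agent.R2.T3544
end

-- part: T44/Cl/AB
section
/-!
# S3544, local case: `Q` is not an elementary abelian minimal normal subgroup of `H` (helper34)
-/

set_option autoImplicit false

namespace Cfsg.Agent.T44

open Subgroup Cfsg Cfsg.Agent.R2.T3544

section off

variable {G : Type*} [Group G]

theorem not_le_cent_symm {A D : Subgroup G} (h : ¬ A ≤ centralizer (D : Set G)) : ¬ D ≤ centralizer (A : Set G) :=
  fun h1 => h (le_centralizer_iff.1 h1)

variable [Finite G]

/-- a best offender of maximal measure in `A` -/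
theorem exists_bestOff_max (A V : Subgroup G) : ∃ B ≤ A, (∀ C ≤ A,
    Nat.card C * Nat.card (V ⊓ centralizer (C : Set G) : Subgroup G) ≤
      Nat.card B * Nat.card (V ⊓ centralizer (B : Set G) : Subgroup G)) ∧ BestOff B V := by
  classical
  obtain ⟨B, hB, hmax⟩ := Set.exists_max_image {B : Subgroup G | B ≤ A}
    (fun C : Subgroup G => Nat.card C * Nat.card (V ⊓ centralizer (C : Set G) : Subgroup G)) (Set.toFinite _)
    ⟨A, (le_rfl : A ≤ A)⟩
  exact ⟨B, hB, fun C hC => hmax C hC, fun C hC => hmax C (hC.trans hB)⟩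

/-- if `A` contains no nontrivial best offender on `V` and does not centralise `V`, then
`|A| |C_V(A)| < |C_A(V)| |V|` -/
theorem card_lt_of_no_off {A V : Subgroup G} (h : ∀ B ≤ A, BestOff B V → B ≤ centralizer (V : Set G))
    (hA : ¬ A ≤ centralizer (V : Set G)) :
    Nat.card A * Nat.card (V ⊓ centralizer (A : Set G) : Subgroup G) <
      Nat.card (A ⊓ centralizer (V : Set G) : Subgroup G) * Nat.card V := by
  obtain ⟨B, hBA, hmax, hbo⟩ := exists_bestOff_max A V
  have hBV := h B hBA hbo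
  have hVB : V ⊓ centralizer (B : Set G) = V := inf_eq_left.2 (le_centralizer_iff.1 hBV)
  rw [hVB] at hmax
  refine lt_of_lt_of_le (lt_of_le_of_ne (hmax A le_rfl) ?_)
    (Nat.mul_le_mul_right _ (card_le_of_le (le_inf hBA hBV)))
  intro heq
  apply hA
  apply h A le_rfl
  intro C hC
  rw [heq]
  exact hmax C hC

/-- **the size lemma** in the form used here -/
theorem size_lemma' {r : ℕ} [Fact r.Prime] {S V X₁ X₂ A B D N₁ N₂ : Subgroup G}
    (hV : MinInv S V) (hEA : IsEA r V) (hS1 : S ≤ normalizer (X₁ : Set G)) (hS2 : S ≤ normalizer (X₂ : Set G))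
    (hX1 : X₁ ≤ S) (hX2 : X₂ ≤ S) (hcomm : ⁅X₁, X₂⁆ ≤ centralizer (V : Set G)) (hAB : A ≤ B) (hBX : B ≤ X₁)
    (hA : IsPGroup r A) (hD : D = V ∨ D = ⁅V, B⁆) (hbest : BestOff A D) (hnc : ¬ D ≤ centralizer (A : Set G))
    (hN1 : MinInv X₁ N₁) (hN1V : N₁ ≤ V) (hN2 : MinInv X₂ N₂) (hN2V : N₂ ≤ V) : Nat.card N₂ < Nat.card N₁ :=
  size_lemma hV hEA hS1 hS2 hX1 hX2 hcomm hAB hBX hA hD hbest hnc hN1 hN1V hN2 hN2V

end off

end Cfsg.Agent.T44

namespace Cfsg.Agent.T44.Cl

open Subgroup Cfsg Cfsg.Agent.T44 Cfsg.Agent.R2.T3544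

variable {G : Type*} [Group G] [Finite G] {T H Q : Subgroup G} {r : ℕ} {Ya Yb : Set G} {da db : ℕ}

theorem ab_aux (h : Cfg T H Q r Ya Yb da db) (hE : IsEA r Q) (hV : MinInv H Q) {N₁ N₂ : Subgroup G}
    (hN1 : MinInv (Lg Q Ya) N₁) (hN1V : N₁ ≤ Q) (hN2 : MinInv (Lg Q Yb) N₂) (hN2V : N₂ ≤ Q) :
    Nat.card N₂ < Nat.card N₁ := by
  have : Fact r.Prime := ⟨h.prime⟩
  obtain ⟨y, hy⟩ := h.A.ne
  have hQc : Q ≤ centralizer (Q : Set G) := fun a ha => mem_centralizer_iff.2 fun b hb => hE.1 b hb a ha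
  have hAc : cj y Q ≤ centralizer (cj y Q : Set G) := by
    rw [← cj_centralizer]; exact cj_mono y hQc
  have hna : ¬ cj y Q ≤ centralizer (Q : Set G) := fun e =>
    h.not_cj_Q_le (h.A.notMem y hy) ((le_inf (h.cj_Q_le_T y) e).trans h.cent_Q)
  have hex : ∃ B ≤ cj y Q, BestOff B Q ∧ ¬ B ≤ centralizer (Q : Set G) := by
    by_contra hc
    push Not at hc
    have h1 := card_lt_of_no_off hc hna
    rw [card_cj, mul_comm] at h1
    have h2 : cj y Q ⊓ centralizer (Q : Set G) ≤ Q ⊓ centralizer (cj y Q : Set G) :=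
      le_inf ((inf_le_inf_right _ (h.cj_Q_le_T y)).trans h.cent_Q) (inf_le_left.trans hAc)
    exact absurd h1 (not_lt.2 (Nat.mul_le_mul_right _ (card_le_of_le h2)))
  obtain ⟨B, hB, hbo, hnc⟩ := hex
  exact size_lemma' (r := r) (A := B) (B := B) (D := Q) hV hE h.H_norm_La h.H_norm_Lb (h.La_le_M.trans inf_le_right)
    (h.Lb_le_M.trans inf_le_right) (h.comm_le.trans hQc) le_rfl
    (hB.trans (cj_le_Lg hy)) ((isPGroup_cj y h.isO.pg).to_le hB) (Or.inl rfl) hbo (not_le_cent_symm hnc)
    hN1 hN1V hN2 hN2V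

theorem exists_minInv_le {X V : Subgroup G} (hV : V ≠ ⊥) (hX : X ≤ normalizer (V : Set G)) :
    ∃ N, MinInv X N ∧ N ≤ V := by
  obtain ⟨N, hNV, hN⟩ := Finite.exists_le_minimal (p := fun N : Subgroup G => N ≠ ⊥ ∧ X ≤ normalizer (N : Set G))
    (a := V) ⟨hV, hX⟩
  refine ⟨N, ⟨hN.prop.1, hN.prop.2, fun K hK hXK => ?_⟩, hNV⟩
  by_cases e : K = ⊥
  · exact Or.inl e
  · exact Or.inr (le_antisymm hK (hN.le_of_le ⟨e, hXK⟩ hK))

/-- **AB**: `Q` is not elementary abelian and minimal `H`-invariant -/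
theorem ab (h : Cfg T H Q r Ya Yb da db) (hc : ∀ a ∈ Q, ∀ b ∈ Q, a * b = b * a) (hr : ∀ a ∈ Q, a ^ r = 1)
    (hmin : ∀ K ≤ Q, H ≤ normalizer (K : Set G) → K = ⊥ ∨ K = Q) : False := by
  have hV : MinInv H Q := ⟨h.Q_ne, h.H_norm_Q, hmin⟩
  obtain ⟨N₁, h1, h1'⟩ := exists_minInv_le h.Q_ne ((h.La_le_M.trans inf_le_right).trans h.H_norm_Q)
  obtain ⟨N₂, h2, h2'⟩ := exists_minInv_le h.Q_ne ((h.Lb_le_M.trans inf_le_right).trans h.H_norm_Q)
  exact lt_asymm (ab_aux h ⟨hc, hr⟩ hV h1 h1' h2 h2') (ab_aux h.symm ⟨hc, hr⟩ hV h2 h2' h1 h1')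

end Cfsg.Agent.T44.Cl
end
end

-- part: T44/Cl/Grp
section
set_option linter.all false
open scoped Cfsg.Agent.FastGrp

/-!
# S3544, classical groups: pure group theory (helper34)

`Bg X` : not soluble, and every soluble normal subgroup is central.  `Sm Y` : the small isometry groups.
`Ch r N Q` : `N` has characteristic `r` and `Q = O_r(N)`.
-/

set_option autoImplicit false

namespace Cfsg.Agent.T44.Cl

open Subgroup Cfsg Cfsg.Agent.T44
open scoped commutatorElement

/-- not soluble, and every soluble normal subgroup is central -/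
structure Bg (X : Type*) [Group X] : Prop where
  nsol : ¬ Group.IsSolvable X
  cen : ∀ K : Subgroup X, K.Normal → Group.IsSolvable K → K ≤ center X

/-- non-trivial, without non-trivial soluble normal subgroup -/
structure NSol (P : Type*) [Group P] : Prop where
  nt : Nontrivial P
  bot : ∀ K : Subgroup P, K.Normal → Group.IsSolvable K → K = ⊥

/-- small groups -/
structure Sm (Y : Type*) [Group Y] : Prop where
  sol : Group.IsSolvable Y
  alt : (∀ a ∈ commutator Y, ∀ b ∈ commutator Y, a * b = b * a) ∨ ∀ s : ℕ, s.Prime → s ∣ Nat.card Y → s = 2 ∨ s = 3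
  ell : ∀ l : ℕ, l.Prime → 5 ≤ l → ∀ (a b : Y) (k : ℕ), a ^ l ^ k = 1 → b ^ l ^ k = 1 → a * b = b * a

section basic

variable {X Y P : Type*} [Group X] [Group Y] [Group P]

theorem sol_map {K : Subgroup X} (f : X →* Y) (h : Group.IsSolvable K) : Group.IsSolvable (K.map f) :=
  Group.isSolvable_of_surjective (f.subgroupMap_surjective K)

theorem sol_of_le {K L : Subgroup X} (hKL : K ≤ L) (h : Group.IsSolvable L) : Group.IsSolvable K :=
  Group.isSolvable_of_isSolvable_injective (inclusion_injective hKL)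

theorem sol_of_comm {K : Subgroup X} (h : ∀ a ∈ K, ∀ b ∈ K, a * b = b * a) : Group.IsSolvable K :=
  Group.isSolvable_of_comm fun a b => Subtype.ext (h a a.2 b b.2)

theorem sol_of_map_inj {K : Subgroup X} {f : X →* Y} (hf : Function.Injective f) (h : Group.IsSolvable (K.map f)) :
    Group.IsSolvable K :=
  Group.isSolvable_of_isSolvable_injective (f := f.subgroupMap K)
    fun _ _ e => Subtype.ext (hf (congrArg Subtype.val e))

/-- extensions -/
theorem sol_of_map {K : Subgroup X} (f : X →* Y) (h1 : Group.IsSolvable (K ⊓ f.ker : Subgroup X))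
    (h2 : Group.IsSolvable (K.map f)) : Group.IsSolvable K := by
  refine Group.isSolvable_of_ker_le_range (inclusion (inf_le_left : K ⊓ f.ker ≤ K)) (f.subgroupMap K) ?_
  intro x hx
  exact ⟨⟨x, x.2, congrArg Subtype.val hx⟩, rfl⟩

theorem sol_of_commutator {K L : Subgroup X} (h1 : ⁅K, K⁆ ≤ L) (h2 : Group.IsSolvable L) : Group.IsSolvable K := by
  have h3 : Group.IsSolvable (commutator K) := by
    have h4 := sol_of_le h1 h2
    rw [← map_subtype_commutator] at h4
    exact Group.isSolvable_of_isSolvable_injective (f := K.subtype.subgroupMap (commutator K))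
      fun a b e => Subtype.ext (Subtype.ext (congrArg (fun t => (t.1 : X)) e))
  exact Group.isSolvable_of_ker_le_range (commutator K).subtype (Abelianization.of (G := K))
    (by rw [Abelianization.ker_of, range_subtype])

theorem Bg.congr (h : Bg X) (e : X ≃* Y) : Bg Y := by
  refine ⟨fun hs => h.nsol (Group.isSolvable_of_isSolvable_injective (f := e.toMonoidHom) e.injective), ?_⟩
  intro K hK hs y hy
  have h1 := h.cen (K.map e.symm.toMonoidHom) (hK.map _ e.symm.surjective) (sol_map _ hs) ⟨y, hy, rfl⟩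
  rw [mem_center_iff] at h1 ⊢
  intro g
  apply e.symm.injective
  rw [map_mul, map_mul]
  exact h1 _

theorem NSol.congr (h : NSol X) (e : X ≃* Y) : NSol Y := by
  have := h.nt
  refine ⟨e.symm.toEquiv.nontrivial, fun K hK hs => ?_⟩
  have h1 := h.bot (K.map e.symm.toMonoidHom) (hK.map _ e.symm.surjective) (sol_map _ hs)
  exact (map_eq_bot_iff_of_injective _ e.symm.injective).1 h1

theorem NSol.of_simple [IsSimpleGroup P] (h : ¬ IsMulCommutative P) : NSol P := by
  refine ⟨inferInstance, fun K hK hs => (hK.eq_bot_or_eq_top).resolve_right fun e => h ?_⟩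
  subst e
  have : Group.IsSolvable P := Group.isSolvable_of_surjective (f := (⊤ : Subgroup P).subtype) fun x => ⟨⟨x, trivial⟩, rfl⟩
  exact ⟨⟨IsSimpleGroup.comm_iff_isSolvable.2 this⟩⟩

theorem NSol.prod (h : NSol X) (h' : NSol Y) : NSol (X × Y) := by
  have := h.nt
  refine ⟨inferInstance, fun K hK hs => ?_⟩
  have h1 := h.bot (K.map (MonoidHom.fst X Y)) (hK.map _ Prod.fst_surjective) (sol_map _ hs)
  have h2 := h'.bot (K.map (MonoidHom.snd X Y)) (hK.map _ Prod.snd_surjective) (sol_map _ hs)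
  rw [eq_bot_iff] at h1 h2 ⊢
  intro x hx
  exact Prod.ext (h1 ⟨x, hx, rfl⟩) (h2 ⟨x, hx, rfl⟩)

theorem Bg.of_nsol (h : NSol (X ⧸ center X)) : Bg X := by
  have key : ∀ K : Subgroup X, K.Normal → Group.IsSolvable K → K ≤ center X := fun K hK hs => by
    have h1 := h.bot (K.map (QuotientGroup.mk' _)) (hK.map _ (QuotientGroup.mk'_surjective _)) (sol_map _ hs)
    rwa [Subgroup.map_eq_bot_iff, QuotientGroup.ker_mk'] at h1
  refine ⟨fun hs => ?_, key⟩
  have h1 := key ⊤ inferInstance inferInstance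
  have := h.nt
  obtain ⟨x, hx⟩ := exists_ne (1 : X ⧸ center X)
  obtain ⟨x, rfl⟩ := QuotientGroup.mk'_surjective _ x
  exact hx ((QuotientGroup.eq_one_iff _).2 (h1 trivial))

theorem Bg.of_nsol' (h : NSol X) : Bg X := by
  refine ⟨fun hs => ?_, fun K hK hs => (h.bot K hK hs).le.trans bot_le⟩
  have := h.nt
  exact top_ne_bot (h.bot ⊤ inferInstance inferInstance)

/-- a perfect group with simple central quotient -/
theorem Bg.of_perfect (hp : commutator X = ⊤) (hs : IsSimpleGroup (X ⧸ center X)) : Bg X := by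
  refine Bg.of_nsol (NSol.of_simple fun hc => ?_)
  have h1 : commutator X ≤ center X := by
    rw [commutator_def, commutator_le]
    intro a _ b _
    rw [← QuotientGroup.eq_one_iff, ← QuotientGroup.mk'_apply, map_commutatorElement,
      commutatorElement_eq_one_iff_mul_comm]
    exact hc.1.1 _ _
  obtain ⟨x, hx⟩ := exists_ne (1 : X ⧸ center X)
  obtain ⟨x, rfl⟩ := QuotientGroup.mk'_surjective _ x
  exact hx ((QuotientGroup.eq_one_iff _).2 (h1 (hp ▸ trivial)))

theorem Bg.comm_congr (h : Bg (commutator X)) (e : X ≃* Y) : Bg (commutator Y) := by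
  refine h.congr ((e.subgroupMap _).trans (MulEquiv.subgroupCongr ?_))
  rw [commutator_def, map_commutator, map_top_of_surjective _ e.surjective, commutator_def]

theorem Bg.of_hom (h : Bg X) (g : X →* Y) (hg : Function.Injective g) (hr : g.range = commutator Y) :
    Bg (commutator Y) := h.congr ((MonoidHom.ofInjective hg).trans (MulEquiv.subgroupCongr hr))

theorem Sm.congr (h : Sm X) (e : X ≃* Y) : Sm Y := by
  have := h.sol
  refine ⟨Group.isSolvable_of_surjective (f := e.toMonoidHom) e.surjective, ?_, ?_⟩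
  · rcases h.alt with h1 | h1
    · left
      have e1 : commutator Y = (commutator X).map e.toMonoidHom := by
        rw [commutator_def, commutator_def, map_commutator, map_top_of_surjective _ e.surjective]
      rw [e1]
      rintro _ ⟨a, ha, rfl⟩ _ ⟨b, hb, rfl⟩
      rw [← map_mul, ← map_mul, h1 a ha b hb]
    · right
      rwa [← Nat.card_congr e.toEquiv]
  · intro l hl h5 a b k ha hb
    apply e.symm.injective
    rw [map_mul, map_mul]
    exact h.ell l hl h5 _ _ k (by rw [← map_pow, ha, map_one]) (by rw [← map_pow, hb, map_one])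

theorem Sm.of_comm (h : ∀ a b : X, a * b = b * a) : Sm X :=
  ⟨Group.isSolvable_of_comm h, Or.inl fun a _ b _ => h a b, fun _ _ _ a b _ _ _ => h a b⟩

theorem Sm.of_index (B : Subgroup X) (hB : ∀ a ∈ B, ∀ b ∈ B, a * b = b * a) (hi : B.index = 2) : Sm X := by
  have hn : B.Normal := normal_of_index_eq_two hi
  have hc : commutator X ≤ B := by
    rw [commutator_def, commutator_le]
    intro a _ b _
    rw [commutatorElement_def, mul_mem_iff_of_index_two hi, mul_mem_iff_of_index_two hi, mul_mem_iff_of_index_two hi,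
      inv_mem_iff, inv_mem_iff]
    tauto
  refine ⟨?_, Or.inl fun a ha b hb => hB a (hc ha) b (hc hb), fun l hl h5 a b k ha hb => ?_⟩
  · have h1 : Group.IsSolvable (⊤ : Subgroup X) := sol_of_commutator (L := B) hc (sol_of_comm hB)
    exact Group.isSolvable_of_surjective (f := (⊤ : Subgroup X).subtype) fun x => ⟨⟨x, trivial⟩, rfl⟩
  · have key : ∀ a : X, a ^ l ^ k = 1 → a ∈ B := fun a ha => by
      obtain ⟨m, hm⟩ : Odd (l ^ k) := (hl.odd_of_ne_two (by omega)).pow
      rw [hm, pow_succ, pow_mul] at ha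
      rw [eq_inv_of_mul_eq_one_right ha]
      exact inv_mem (pow_mem (sq_mem_of_index_two hi a) _)
    exact hB a (key a ha) b (key b hb)

theorem Sm.of_23 [Finite X] (a b : ℕ) (h : Nat.card X ∣ 2 ^ a * 3 ^ b) : Sm X := by
  have key : ∀ s : ℕ, s.Prime → s ∣ Nat.card X → s = 2 ∨ s = 3 := fun s hs hd => by
    rcases (hs.dvd_mul).1 (hd.trans h) with h1 | h1
    · exact Or.inl ((Nat.prime_dvd_prime_iff_eq hs Nat.prime_two).1 (hs.dvd_of_dvd_pow h1))
    · exact Or.inr ((Nat.prime_dvd_prime_iff_eq hs Nat.prime_three).1 (hs.dvd_of_dvd_pow h1))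
  refine ⟨?_, Or.inr key, fun l hl h5 x y k hx _ => ?_⟩
  · obtain ⟨u, v, hu, hv, huv⟩ := exists_dvd_and_dvd_of_dvd_mul h
    obtain ⟨i, -, rfl⟩ := (Nat.dvd_prime_pow Nat.prime_two).1 hu
    obtain ⟨j, -, rfl⟩ := (Nat.dvd_prime_pow Nat.prime_three).1 hv
    exact Cfsg.Agent.S0144.result 2 3 i j Nat.prime_two Nat.prime_three huv
  · have h1 : x = 1 := by
      by_contra hne
      obtain ⟨i, -, hi⟩ := (Nat.dvd_prime_pow hl).1 (orderOf_dvd_of_pow_eq_one hx)
      have h2 : i ≠ 0 := fun e => hne (orderOf_eq_one_iff.1 (by rw [hi, e, pow_zero]))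
      have h3 := key l hl ((dvd_pow_self l h2).trans (hi ▸ orderOf_dvd_natCard x))
      omega
    rw [h1, one_mul, mul_one]

end basic

end Cfsg.Agent.T44.Cl
end

-- part: T44/Cl/Wr
section
prune_inst 0x10000100042000000018000000001c42b2000000000b00000000000004800c4120010e20b060021011100064203e804810800009001000002000820041180080040020c28008b00001000040e802000000000000000000000000000000000000000000000
set_option linter.all false
open scoped Cfsg.Agent.FastGrp

-- part: T44/Cl/Ch
section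
/-!
# S3544, classical groups: groups of characteristic `r` (helper34)
-/

set_option autoImplicit false

namespace Cfsg.Agent.T44.Cl

open Subgroup Cfsg Cfsg.Agent.T44
open scoped commutatorElement

variable {G : Type*} [Group G]

/-- `N` has characteristic `r` and `Q = O_r(N)` -/
structure Ch (r : ℕ) (N Q : Subgroup G) : Prop where
  prime : r.Prime
  isO : IsO r Q N
  cent : N ⊓ centralizer (Q : Set G) ≤ Q

theorem pow_mul_of_comm {x q : G} (h : x * ⁅x, q⁆ = ⁅x, q⁆ * x) (n : ℕ) : x ^ n * q = ⁅x, q⁆ ^ n * q * x ^ n := by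
  induction n with
  | zero => simp
  | succ n ih =>
    have e : x * q = ⁅x, q⁆ * q * x := by rw [commutatorElement_def]; group
    have hc : x ^ n * ⁅x, q⁆ = ⁅x, q⁆ * x ^ n := (Commute.pow_left h n).eq
    calc x ^ (n + 1) * q = x ^ n * (x * q) := by rw [pow_succ, mul_assoc]
      _ = x ^ n * ⁅x, q⁆ * q * x := by rw [e]; simp only [mul_assoc]
      _ = ⁅x, q⁆ * (x ^ n * q) * x := by rw [hc]; simp only [mul_assoc]
      _ = ⁅x, q⁆ ^ (n + 1) * q * x ^ (n + 1) := by rw [ih, pow_succ', pow_succ]; simp only [mul_assoc]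

theorem pg_of_nil {M : Type*} [Group M] [Finite M] {p : ℕ} (hp : p.Prime) {L : Subgroup M} (hL : Group.IsNilpotent L)
    (hg : L ≤ Gen p L) : IsPGroup p L := by
  have : Fact p.Prime := ⟨hp⟩
  obtain ⟨P⟩ : Nonempty (Sylow p L) := inferInstance
  have hn : (P : Subgroup L).Normal := inferInstance
  have := Sylow.unique_of_normal P hn
  have h1 : Gen p L ≤ (P : Subgroup L).map L.subtype := by
    refine (closure_le _).2 ?_
    rintro x ⟨hx, k, hk⟩
    have h2 : IsPGroup p (zpowers (⟨x, hx⟩ : L)) := by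
      rintro ⟨_, n, rfl⟩
      refine ⟨k, Subtype.ext (Subtype.ext ?_)⟩
      change (x ^ n) ^ p ^ k = 1
      rw [← zpow_natCast, ← zpow_mul, mul_comm, zpow_mul, zpow_natCast, hk, one_zpow]
    obtain ⟨P', hP'⟩ := h2.exists_le_sylow
    rw [Subsingleton.elim P' P] at hP'
    exact ⟨_, hP' (mem_zpowers _), rfl⟩
  exact (P.isPGroup'.map L.subtype).to_le (hg.trans h1)

namespace Ch

variable {r : ℕ} {N Q : Subgroup G} (h : Ch r N Q)
include h

theorem comm_mem {x q : G} (hx : x ∈ N) (hq : q ∈ Q) : ⁅x, q⁆ ∈ Q := by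
  rw [commutatorElement_def]
  exact mul_mem (conj_mem_of_norm h.isO.norm hx hq) (inv_mem hq)

variable [Finite G]

theorem le_of_cent {C : Subgroup G} (hC : C ≤ N) (hn : N ≤ normalizer (C : Set G))
    (hc : ∀ x ∈ C, ∀ q ∈ Q, x * ⁅x, q⁆ = ⁅x, q⁆ * x) : C ≤ Q := by
  have : Fact r.Prime := ⟨h.prime⟩
  obtain ⟨k, hk⟩ := IsPGroup.iff_card.1 h.isO.pg
  have h1 : ∀ y ∈ Q, y ^ r ^ k = 1 := fun y hy => by
    have h2 : (⟨y, hy⟩ : Q) ^ Nat.card Q = 1 := pow_card_eq_one'
    rw [hk] at h2
    exact congrArg Subtype.val h2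
  refine h.isO.max C hC (fun x => ⟨k + k, Subtype.ext ?_⟩) hn
  change (x : G) ^ r ^ (k + k) = 1
  rw [pow_add, pow_mul]
  refine h1 _ (h.cent ⟨pow_mem (hC x.2) _, mem_centralizer_iff.2 fun q hq => ?_⟩)
  rw [pow_mul_of_comm (hc x x.2 q hq), h1 _ (h.comm_mem (hC x.2) hq), one_mul]

/-- abelian normal subgroups -/
theorem le_of_comm {B : Subgroup G} (hB : B ≤ N) (hn : N ≤ normalizer (B : Set G))
    (hc : ∀ a ∈ B, ∀ b ∈ B, a * b = b * a) : B ≤ Q := by
  refine h.le_of_cent hB hn fun x hx q hq => hc x hx _ ?_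
  rw [commutatorElement_def, mul_assoc, mul_assoc, ← mul_assoc q]
  exact mul_mem hx (conj_mem_of_norm hn (h.isO.le hq) (inv_mem hx))

/-- normal subgroups -/
theorem sub {K : Subgroup G} (hK : K ≤ N) (hn : N ≤ normalizer (K : Set G)) : Ch r K (K ⊓ Q) := by
  refine ⟨h.prime, h.isO.inf hK hn, le_inf inf_le_left ?_⟩
  refine h.le_of_cent (inf_le_left.trans hK) (norm_inf hn (norm_centralizer (norm_inf hn h.isO.norm))) ?_
  intro x hx q hq
  refine (mem_centralizer_iff.1 hx.2 _ ⟨?_, h.comm_mem (hK hx.1) hq⟩).symm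
  rw [commutatorElement_def, mul_assoc, mul_assoc, ← mul_assoc q]
  exact mul_mem hx.1 (conj_mem_of_norm hn (h.isO.le hq) (inv_mem hx.1))

theorem sol_Q : Group.IsSolvable Q := by
  have : Fact r.Prime := ⟨h.prime⟩
  have := h.isO.pg.isNilpotent
  infer_instance

/-- **no component-like subgroups** -/
theorem crit {X : Type*} [Group X] (f : X →* G) (hf : f.ker ≤ center X) (hr : f.range ≤ N)
    (hn : Q ≤ normalizer (f.range : Set G)) : ¬ Bg X := by
  intro hX
  have hK : (Q.comap f).Normal := ⟨fun x hx g => by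
    rw [mem_comap, map_mul, map_mul, map_inv]
    exact conj_mem_of_norm h.isO.norm (hr ⟨g, rfl⟩) hx⟩
  have hz : Q.comap f ≤ center X := hX.cen _ hK (sol_of_map f
    (sol_of_comm fun a ha b _ => (mem_center_iff.1 (hf ha.2) b).symm) (sol_of_le (map_comap_le _ _) h.sol_Q))
  have h1 : ⁅⁅f.range, Q⁆, f.range⁆ = ⊥ := by
    rw [commutator_eq_bot_iff_le_centralizer]
    intro y hy
    obtain ⟨x, rfl⟩ := commutator_le_left_of_norm hn hy
    have h2 : f x ∈ Q := commutator_le_right_of_norm (hr.trans h.isO.norm) hy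
    rw [mem_centralizer_iff]
    rintro _ ⟨g, rfl⟩
    rw [← map_mul, ← map_mul, mem_center_iff.1 (hz h2) g]
  have h2 : ⁅⁅f.range, f.range⁆, Q⁆ = ⊥ :=
    commutator_commutator_eq_bot_of_rotate h1 (by rw [Subgroup.commutator_comm Q]; exact h1)
  rw [commutator_eq_bot_iff_le_centralizer] at h2
  have h3 : ⁅(⊤ : Subgroup X), ⊤⁆ ≤ center X := by
    refine le_trans ?_ hz
    rw [← map_le_iff_le_comap, map_commutator, ← MonoidHom.range_eq_map]
    exact (le_inf ((commutator_le_left_of_norm le_normalizer).trans hr) h2).trans h.cent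
  have h4 := sol_of_commutator h3 (sol_of_comm fun a ha b _ => (mem_center_iff.1 ha b).symm)
  exact hX.nsol (Group.isSolvable_of_surjective (f := (⊤ : Subgroup X).subtype) fun x => ⟨⟨x, trivial⟩, rfl⟩)

/-- normal subgroups generated by `r`-elements and nilpotent of class two modulo `Q` -/
theorem le_of_nil {L : Subgroup G} (hL : L ≤ N) (hn : N ≤ normalizer (L : Set G)) (hg : L ≤ Gen r L)
    (hc : ⁅⁅L, L⁆, L⁆ ≤ Q) : L ≤ Q := by
  have hN : (Q.subgroupOf N).Normal := (normal_subgroupOf_iff_le_normalizer h.isO.le).2 h.isO.norm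
  let π : N →* N ⧸ Q.subgroupOf N := QuotientGroup.mk' _
  have e1 : (L.subgroupOf N).map N.subtype = L := map_subgroupOf_eq_of_le hL
  have h1 : Group.IsNilpotent ((L.subgroupOf N).map π) := by
    refine (isNilpotent_iff_lowerCentralSeries _).2 ⟨2, ?_⟩
    change ⁅⁅(L.subgroupOf N).map π, (L.subgroupOf N).map π⁆, (L.subgroupOf N).map π⁆ = ⊥
    rw [← map_commutator, ← map_commutator, Subgroup.map_eq_bot_iff, QuotientGroup.ker_mk']
    refine map_le_iff_le_comap.1 ?_
    rw [map_commutator, map_commutator, e1]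
    exact hc
  have h2 : IsPGroup r ((L.subgroupOf N).map π) := by
    refine pg_of_nil h.prime h1 ?_
    have h3 : Gen r L ≤ ((Gen r ((L.subgroupOf N).map π)).comap π).map N.subtype := by
      refine (closure_le _).2 ?_
      rintro x ⟨hx, k, hk⟩
      refine ⟨⟨x, hL hx⟩, subset_closure ⟨⟨⟨x, hL hx⟩, hx, rfl⟩, k, ?_⟩, rfl⟩
      rw [← map_pow, show (⟨x, hL hx⟩ : N) ^ r ^ k = 1 from Subtype.ext hk, map_one]
    rintro _ ⟨x, hx, rfl⟩
    obtain ⟨y, hy, e⟩ := h3 (hg hx)
    rwa [show y = x from Subtype.ext e] at hy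
  refine h.isO.max L hL (fun x => ?_) hn
  obtain ⟨k, hk⟩ := h2 ⟨π ⟨x, hL x.2⟩, _, x.2, rfl⟩
  have h3 : π (⟨x, hL x.2⟩ ^ r ^ k) = 1 := by rw [map_pow]; exact congrArg Subtype.val hk
  have h4 : (⟨x, hL x.2⟩ : N) ^ r ^ k ∈ Q.subgroupOf N := (QuotientGroup.eq_one_iff _).1 h3
  obtain ⟨j, hj⟩ := h.isO.pg ⟨(x : G) ^ r ^ k, h4⟩
  refine ⟨k + j, Subtype.ext ?_⟩
  change (x : G) ^ r ^ (k + j) = 1
  rw [pow_add, pow_mul]
  exact congrArg Subtype.val hj

end Ch

end Cfsg.Agent.T44.Cl
end

-- part: T44/Cl/Wr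
section
/-!
# S3544, classical groups: the situation `Sit` and the wreath lemma (helper34)
-/

set_option autoImplicit false

namespace Cfsg.Agent.T44.Cl

open Subgroup Cfsg Cfsg.Agent.T44 Cfsg.Agent.DS.Cl
open scoped commutatorElement

/-- the structure of `M = T ⊓ H` -/
structure Sit {G : Type*} [Group G] (r : ℕ) (N Q La Lb : Subgroup G) : Prop extends Ch r N Q where
  Q_ne : Q ≠ ⊥
  La_le : La ≤ N
  Lb_le : Lb ≤ N
  La_norm : N ≤ normalizer (La : Set G)
  Lb_norm : N ≤ normalizer (Lb : Set G)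
  comm : ⁅La, Lb⁆ ≤ Q
  genA : La ≤ Gen r La
  genB : Lb ≤ Gen r Lb
  not_La : ¬ La ≤ Q
  not_Lb : ¬ Lb ≤ Q
  primes : ∃ s t : ℕ, s.Prime ∧ t.Prime ∧ s ≠ t ∧ s ≠ r ∧ t ≠ r ∧ s ∣ Nat.card La ∧ t ∣ Nat.card Lb
  nsol : ¬ Group.IsSolvable N

theorem Sit.symm {G : Type*} [Group G] {r : ℕ} {N Q La Lb : Subgroup G} (h : Sit r N Q La Lb) : Sit r N Q Lb La := by
  obtain ⟨s, t, h1, h2, h3, h4, h5, h6, h7⟩ := h.primes
  exact ⟨h.toCh, h.Q_ne, h.Lb_le, h.La_le, h.Lb_norm, h.La_norm, by rw [Subgroup.commutator_comm]; exact h.comm,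
    h.genB, h.genA, h.not_Lb, h.not_La, ⟨t, s, h2, h1, h3.symm, h5, h4, h7, h6⟩, h.nsol⟩

section ind

variable {G : Type*} [Group G]

/-- all prime divisors of the order are `2` or `3` -/
def P23 (W : Subgroup G) : Prop := ∀ s : ℕ, s.Prime → s ∣ Nat.card W → s = 2 ∨ s = 3

/-- commutative subgroups -/
def Cm (W : Subgroup G) : Prop := ∀ a ∈ W, ∀ b ∈ W, a * b = b * a

theorem cm_iff {W : Subgroup G} : Cm W ↔ W ≤ centralizer (W : Set G) :=
  ⟨fun h a ha => mem_centralizer_iff.2 fun b hb => h b hb a ha, fun h a ha _ hb => mem_centralizer_iff.1 (h hb) a ha⟩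

theorem sup_eq_range {A B : Subgroup G} (h : A ≤ centralizer (B : Set G)) : ∃ f : A × B →* G, f.range = A ⊔ B := by
  have hc : ∀ (a : A) (b : B), Commute (A.subtype a) (B.subtype b) :=
    fun a b => (mem_centralizer_iff.1 (h a.2) b b.2).symm
  refine ⟨MonoidHom.noncommCoprod A.subtype B.subtype hc, ?_⟩
  rw [MonoidHom.noncommCoprod_range, range_subtype, range_subtype]

theorem sol_sup {A B : Subgroup G} (h : A ≤ centralizer (B : Set G)) (hA : Group.IsSolvable A)
    (hB : Group.IsSolvable B) : Group.IsSolvable (A ⊔ B : Subgroup G) := by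
  obtain ⟨f, hf⟩ := sup_eq_range h
  rw [← hf]
  exact Group.isSolvable_of_surjective f.rangeRestrict_surjective

theorem P23.sup {A B : Subgroup G} (h : A ≤ centralizer (B : Set G)) (hA : P23 A) (hB : P23 B) : P23 (A ⊔ B) := by
  obtain ⟨f, hf⟩ := sup_eq_range h
  intro s hs hd
  rw [← hf] at hd
  have h1 := hd.trans (card_dvd_of_surjective _ f.rangeRestrict_surjective)
  rw [Nat.card_prod] at h1
  exact ((hs.dvd_mul).1 h1).elim (hA s hs) (hB s hs)

theorem P23.of_le {A B : Subgroup G} (h : A ≤ B) (hB : P23 B) : P23 A :=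
  fun s hs hd => hB s hs (hd.trans (card_dvd_of_le h))

theorem Cm.sup {A B : Subgroup G} (h : A ≤ centralizer (B : Set G)) (hA : Cm A) (hB : Cm B) : Cm (A ⊔ B) := by
  rw [cm_iff] at hA hB ⊢
  refine sup_le ?_ ?_ <;> rw [le_centralizer_iff]
  · exact sup_le hA (le_centralizer_iff.1 h)
  · exact sup_le h hB

theorem Cm.of_le {A B : Subgroup G} (h : A ≤ B) (hB : Cm B) : Cm A := fun a ha b hb => hB a (h ha) b (h hb)

theorem iSup_ind {X : Type*} {D : Set X} (hD : D.Finite) {W : X → Subgroup G}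
    (hc : ∀ e ∈ D, ∀ f ∈ D, e ≠ f → W e ≤ centralizer (W f : Set G)) {P : Subgroup G → Prop} (h0 : P ⊥)
    (hs : ∀ A B : Subgroup G, A ≤ centralizer (B : Set G) → P A → P B → P (A ⊔ B)) (h : ∀ e ∈ D, P (W e)) :
    P (⨆ e ∈ D, W e) := by
  induction D, hD using Set.Finite.induction_on with
  | empty => simpa using h0
  | @insert a s ha _ ih =>
    rw [iSup_insert]
    refine hs _ _ ?_ (h a (Set.mem_insert _ _)) (ih (fun e he f hf => hc e (Set.mem_insert_of_mem _ he) f
      (Set.mem_insert_of_mem _ hf)) fun e he => h e (Set.mem_insert_of_mem _ he))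
    rw [le_centralizer_iff]
    exact iSup₂_le fun e he => hc e (Set.mem_insert_of_mem _ he) a (Set.mem_insert _ _) fun e' => ha (e' ▸ he)

theorem commutator_iSup_le {X : Type*} {D : Set X} {W : X → Subgroup G} {A Q M : Subgroup G}
    (hQ : M ≤ normalizer (Q : Set G)) (hW : ∀ e ∈ D, W e ≤ M) (h : ∀ e ∈ D, ⁅A, W e⁆ ≤ Q) : ⁅A, ⨆ e ∈ D, W e⁆ ≤ Q :=
  ((le_cmod (hQ := hQ)).1 (iSup₂_le fun e he => le_cmod.2 ⟨hW e he, h e he⟩)).2

theorem comm_iSup_le {X : Type*} {D : Set X} {W : X → Subgroup G}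
    (hc : ∀ e ∈ D, ∀ f ∈ D, e ≠ f → W e ≤ centralizer (W f : Set G)) :
    ⁅⨆ e ∈ D, W e, ⨆ e ∈ D, W e⁆ ≤ ⨆ e ∈ D, ⁅W e, W e⁆ := by
  have hn : (⨆ e ∈ D, W e) ≤ normalizer ((⨆ e ∈ D, ⁅W e, W e⁆ : Subgroup G) : Set G) := by
    refine iSup₂_le fun f hf => norm_of_conj fun a ha x hx => ?_
    have h1 : (⨆ e ∈ D, ⁅W e, W e⁆) ≤ cj a⁻¹ (⨆ e ∈ D, ⁅W e, W e⁆) := by
      refine iSup₂_le fun e he => cj_le_iff.1 (le_trans ?_ (le_iSup₂_of_le e he le_rfl))
      by_cases hef : e = f
      · subst hef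
        exact (cj_eq_iff.2 (norm_commutator le_normalizer le_normalizer ha)).le
      · refine (cj_eq_iff.2 (centralizer_le_normalizer _ ?_)).le
        exact centralizer_le (commutator_le_left_of_norm le_normalizer) (hc f hf e he (Ne.symm hef) ha)
    have h2 := mem_cj.1 (h1 hx)
    rwa [inv_inv] at h2
  have hW : ∀ e ∈ D, W e ≤ ⨆ e ∈ D, W e := fun e he => le_iSup₂_of_le e he le_rfl
  refine commutator_iSup_le hn hW fun e he => ?_
  rw [Subgroup.commutator_comm]
  refine commutator_iSup_le hn hW fun f hf => ?_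
  by_cases hef : e = f
  · subst hef
    exact le_iSup₂_of_le e he le_rfl
  · rw [commutator_eq_bot_iff_le_centralizer.2 (hc e he f hf hef)]
    exact bot_le

end ind

section wr

variable {G X : Type} [Group G] [MulAction G X]

/-- block groups of an invariant set -/
structure Wr (N : Subgroup G) (D : Set X) (W : X → Subgroup G) : Prop where
  fin : D.Finite
  stab : N ≤ setStab G D
  le : ∀ e ∈ D, ⁅W e, W e⁆ ≤ N
  conj : ∀ γ ∈ N, ∀ e ∈ D, cj γ (W e) ≤ W (γ • e)
  comm : ∀ e ∈ D, ∀ f ∈ D, e ≠ f → W e ≤ centralizer (W f : Set G)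
  fix : ∀ e ∈ D, W e ≤ ptStab G D
  base : N ⊓ ptStab G D ≤ ⨆ e ∈ D, W e

namespace Wr

variable {N : Subgroup G} {D : Set X} {W : X → Subgroup G} (w : Wr N D W)
include w

theorem norm_base : N ≤ normalizer ((N ⊓ ptStab G D : Subgroup G) : Set G) :=
  norm_inf le_normalizer (norm_of_conj fun _ ha _ hx => conj_mem_ptStab (w.stab ha) hx)

theorem base_norm {e : X} (he : e ∈ D) : N ⊓ ptStab G D ≤ normalizer (W e : Set G) :=
  norm_of_conj fun a ha x hx => by
    have h1 := w.conj a ha.1 e he (conj_mem_cj hx a)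
    rwa [ha.2 e he] at h1

theorem comm_le_base {e : X} (he : e ∈ D) : ⁅W e, W e⁆ ≤ N ⊓ ptStab G D :=
  le_inf (w.le e he) ((commutator_le_left_of_norm le_normalizer).trans (w.fix e he))

theorem sol_base (h : ∀ e ∈ D, Group.IsSolvable (W e)) : Group.IsSolvable (N ⊓ ptStab G D : Subgroup G) :=
  sol_of_le w.base (iSup_ind (P := fun A => Group.IsSolvable A) w.fin w.comm inferInstance (fun _ _ => sol_sup) h)

theorem comm' {e f : X} (he : e ∈ D) (hf : f ∈ D) (hef : e ≠ f) :
    ⁅W e, W e⁆ ≤ centralizer ((⁅W f, W f⁆ : Subgroup G) : Set G) :=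
  (commutator_le_left_of_norm le_normalizer).trans ((w.comm e he f hf hef).trans
    (centralizer_le (commutator_le_left_of_norm le_normalizer)))

theorem base_comm : ⁅N ⊓ ptStab G D, N ⊓ ptStab G D⁆ ≤ ⨆ e ∈ D, ⁅W e, W e⁆ :=
  (commutator_mono w.base w.base).trans (comm_iSup_le w.comm)

theorem conj' {γ : G} (hγ : γ ∈ N) {e : X} (he : e ∈ D) : cj γ ⁅W e, W e⁆ ≤ ⁅W (γ • e), W (γ • e)⁆ := by
  rw [cj_commutator]
  exact commutator_mono (w.conj γ hγ e he) (w.conj γ hγ e he)

theorem norm_iSup : N ≤ normalizer ((⨆ e ∈ D, ⁅W e, W e⁆ : Subgroup G) : Set G) := by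
  refine norm_of_conj fun a ha x hx => ?_
  have h1 : (⨆ e ∈ D, ⁅W e, W e⁆) ≤ cj a⁻¹ (⨆ e ∈ D, ⁅W e, W e⁆) := iSup₂_le fun e he =>
    cj_le_iff.1 ((w.conj' ha he).trans (le_iSup₂_of_le (a • e) ((w.stab ha e).1 he) le_rfl))
  have h2 := mem_cj.1 (h1 hx)
  rwa [inv_inv] at h2

/-- the image of a subgroup in the symmetric group -/
def top (L : Subgroup G) : Subgroup (Equiv.Perm D) := (L.subgroupOf N).map (permOn N D w.stab)

theorem top_eq_bot {L : Subgroup G} (hL : L ≤ N) (h : w.top L = ⊥) : L ≤ N ⊓ ptStab G D := by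
  refine le_inf hL fun a ha x hx => ?_
  have h1 : permOn N D w.stab ⟨a, hL ha⟩ ∈ w.top L := ⟨_, ha, rfl⟩
  rw [h, mem_bot] at h1
  have h2 := permOn_apply N D w.stab ⟨a, hL ha⟩ ⟨x, hx⟩
  rw [h1] at h2
  exact h2.symm

theorem top_base {L : Subgroup G} (h : L ≤ N ⊓ ptStab G D) : w.top L = ⊥ := by
  rw [eq_bot_iff]
  rintro _ ⟨a, ha, rfl⟩
  exact Equiv.ext fun x => Subtype.ext ((h ha).2 x x.2)

theorem top_norm {L : Subgroup G} (hn : N ≤ normalizer (L : Set G)) :
    w.top N ≤ normalizer (w.top L : Set (Equiv.Perm D)) := by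
  refine norm_of_conj ?_
  rintro _ ⟨a, -, rfl⟩ _ ⟨x, hx, rfl⟩
  exact ⟨a * x * a⁻¹, conj_mem_of_norm hn a.2 hx, by rw [map_mul, map_mul, map_inv]⟩

theorem top_comm {L L' : Subgroup G} (hL : L ≤ N) (hL' : L' ≤ N) : ⁅w.top L, w.top L'⁆ ≤ w.top ⁅L, L'⁆ := by
  rw [top, top, ← map_commutator]
  refine map_mono (map_le_iff_le_comap.1 ?_)
  rw [map_commutator, map_subgroupOf_eq_of_le hL, map_subgroupOf_eq_of_le hL']

theorem sol_top {L : Subgroup G} (hL : L ≤ N) (h : Group.IsSolvable L) : Group.IsSolvable (w.top L) :=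
  sol_map _ (Group.isSolvable_of_surjective (f := (subgroupOfEquivOfLe hL).symm.toMonoidHom)
    (subgroupOfEquivOfLe hL).symm.surjective)

theorem sol_of_top (h1 : Group.IsSolvable (N ⊓ ptStab G D : Subgroup G)) (h2 : Group.IsSolvable (w.top N)) :
    Group.IsSolvable N := by
  have h3 : Group.IsSolvable (N.subgroupOf N) := by
    refine sol_of_map (permOn N D w.stab) ?_ h2
    refine sol_of_map_inj N.subtype_injective (sol_of_le ?_ h1)
    rintro _ ⟨a, ha, rfl⟩
    refine ⟨a.2, fun x hx => ?_⟩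
    have h4 := permOn_apply N D w.stab a ⟨x, hx⟩
    rw [MonoidHom.mem_ker.1 ha.2] at h4
    exact h4.symm
  exact Group.isSolvable_of_surjective (f := (subgroupOfEquivOfLe (le_refl N)).toMonoidHom)
    (subgroupOfEquivOfLe (le_refl N)).surjective

variable [Finite G] {r : ℕ} {Q La Lb : Subgroup G}

/-- `La` in the base group, `Lb` moving every block -/
theorem comm_block (h : Sit r N Q La Lb) (hLa : La ≤ N ⊓ ptStab G D)
    (disj : ∀ e ∈ D, ∀ f ∈ D, e ≠ f → W e ⊓ W f = ⊥) {e : X} (he : e ∈ D) {b : G} (hb : b ∈ Lb) (hne : b • e ≠ e) :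
    ⁅La, ⁅W e, W e⁆⁆ ≤ Q := by
  have hf : b • e ∈ D := (w.stab (h.Lb_le hb) e).1 he
  set f := b • e with hfdef
  have hc := w.comm' he hf hne.symm
  have hcomm : ∀ x ∈ ⁅W e, W e⁆, ∀ y ∈ ⁅W f, W f⁆, y * x = x * y := fun x hx y hy => mem_centralizer_iff.1 (hc hx) y hy
  have hKe : N ⊓ ptStab G D ≤ normalizer ((⁅W e, W e⁆ : Subgroup G) : Set G) :=
    norm_commutator (w.base_norm he) (w.base_norm he)
  have hKf : N ⊓ ptStab G D ≤ normalizer ((⁅W f, W f⁆ : Subgroup G) : Set G) :=
    norm_commutator (w.base_norm hf) (w.base_norm hf)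
  let Z : Subgroup G :=
    { carrier := {x | x ∈ ⁅W e, W e⁆ ∧ ∃ y ∈ ⁅W f, W f⁆, x * y ∈ Q}
      one_mem' := ⟨one_mem _, 1, one_mem _, by rw [mul_one]; exact one_mem _⟩
      mul_mem' := by
        rintro x x' ⟨hx, y, hy, h1⟩ ⟨hx', y', hy', h2⟩
        refine ⟨mul_mem hx hx', y * y', mul_mem hy hy', ?_⟩
        have e1 : x * x' * (y * y') = x * y * (x' * y') := by
          rw [mul_assoc, mul_assoc, ← mul_assoc x', ← hcomm x' hx' y hy, mul_assoc]
        rw [e1]
        exact mul_mem h1 h2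
      inv_mem' := by
        rintro x ⟨hx, y, hy, h1⟩
        refine ⟨inv_mem hx, y⁻¹, inv_mem hy, ?_⟩
        rw [← mul_inv_rev, hcomm x hx y hy]
        exact inv_mem h1 }
  have hZ : Z ≤ Q := by
    refine h.isO.le_of_sub inf_le_left w.norm_base (fun x hx => w.comm_le_base he hx.1) ?_ (norm_of_conj ?_)
    · rintro ⟨x, hx, y, hy, h1⟩
      obtain ⟨k, hk⟩ := h.isO.pg ⟨_, h1⟩
      have h2 : (x * y) ^ r ^ k = 1 := congrArg Subtype.val hk
      rw [(show Commute x y from (hcomm x hx y hy).symm).mul_pow] at h2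
      refine ⟨k, Subtype.ext ?_⟩
      change x ^ r ^ k = 1
      rw [← mem_bot, ← disj e he f hf hne.symm]
      refine ⟨commutator_le_left_of_norm le_normalizer (pow_mem hx _), ?_⟩
      rw [eq_inv_of_mul_eq_one_left h2]
      exact commutator_le_left_of_norm le_normalizer (inv_mem (pow_mem hy _))
    · rintro a ha x ⟨hx, y, hy, h1⟩
      refine ⟨conj_mem_of_norm hKe ha hx, _, conj_mem_of_norm hKf ha hy, ?_⟩
      have h2 := conj_mem_of_norm h.isO.norm ha.1 h1
      rwa [show a * (x * y) * a⁻¹ = a * x * a⁻¹ * (a * y * a⁻¹) by group] at h2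
  rw [commutator_le]
  intro a ha n hn
  have hn' : b * n⁻¹ * b⁻¹ ∈ ⁅W f, W f⁆ := w.conj' (h.Lb_le hb) he (conj_mem_cj (inv_mem hn) b)
  have h1 : n * (b * n⁻¹ * b⁻¹) ∈ Lb := by
    rw [show n * (b * n⁻¹ * b⁻¹) = n * b * n⁻¹ * b⁻¹ by group]
    exact mul_mem (conj_mem_of_norm h.Lb_norm (w.le e he hn) hb) (inv_mem hb)
  have h2 := h.comm (commutator_mem_commutator ha h1)
  have h3 : ⁅a, b * n⁻¹ * b⁻¹⁆ ∈ ⁅W f, W f⁆ := by
    rw [commutatorElement_def]
    exact mul_mem (conj_mem_of_norm hKf (hLa ha) hn') (inv_mem hn')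
  refine hZ ⟨?_, _, h3, ?_⟩
  · rw [commutatorElement_def]
    exact mul_mem (conj_mem_of_norm hKe (hLa ha) hn) (inv_mem hn)
  · have e1 : ⁅a, n * (b * n⁻¹ * b⁻¹)⁆ = ⁅a, n⁆ * (n * ⁅a, b * n⁻¹ * b⁻¹⁆ * n⁻¹) := by
      simp only [commutatorElement_def]; group
    rwa [e1, ← hcomm n hn _ h3, mul_inv_cancel_right] at h2

theorem false_of_blocks (h : Sit r N Q La Lb) (hLa : La ≤ N ⊓ ptStab G D) (hc : ∀ e ∈ D, ⁅La, ⁅W e, W e⁆⁆ ≤ Q) :
    False := by
  refine h.not_La (h.le_of_nil h.La_le h.La_norm h.genA ?_)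
  rw [Subgroup.commutator_comm]
  exact (commutator_mono le_rfl ((commutator_mono hLa hLa).trans w.base_comm)).trans
    (commutator_iSup_le h.isO.norm w.le hc)

/-- **the wreath lemma** -/
theorem false [Fintype D] [DecidableEq D] (h : Sit r N Q La Lb)
    (disj : 5 ≤ Fintype.card D → ∀ e ∈ D, ∀ f ∈ D, e ≠ f → W e ⊓ W f = ⊥) (hs : ∀ e ∈ D, Group.IsSolvable (W e))
    (ha : ∀ e ∈ D, Cm ⁅W e, W e⁆ ∨ P23 (W e)) (alt : alternatingGroup D ≤ w.top N) : False := by
  have h5 : 5 ≤ Fintype.card D := by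
    by_contra hlt
    refine h.nsol (w.sol_of_top (w.sol_base hs) ?_)
    have : Group.IsSolvable (Equiv.Perm D) := by
      refine (Sm.of_23 3 1 ?_).sol
      rw [Nat.card_eq_fintype_card, Fintype.card_perm]
      exact Nat.factorial_dvd_factorial (n := 4) (by omega)
    infer_instance
  have hsim := alternatingGroup.isSimpleGroup (α := D) (by rwa [Nat.card_eq_fintype_card])
  have hperf := commutator_alternatingGroup_eq_self (α := D) (by rwa [Nat.card_eq_fintype_card])
  have hne : alternatingGroup D ≠ ⊥ := (nontrivial_iff_ne_bot _).1 inferInstance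
  have key : ∀ {L : Subgroup G}, L ≤ N → N ≤ normalizer (L : Set G) →
      L ≤ N ⊓ ptStab G D ∨ alternatingGroup D ≤ w.top L := fun hL hn =>
    (H508.AltHom.perm_key h5 (alt.trans (w.top_norm hn))).imp (w.top_eq_bot hL) id
  have mov : ∀ {L : Subgroup G}, alternatingGroup D ≤ w.top L → ∀ e ∈ D, ∀ f ∈ D, ∃ b ∈ L, b • e = f := by
    intro L hL e he f hf
    have := alternatingGroup.isPretransitive_of_three_le_card D (by rw [Nat.card_eq_fintype_card]; omega)
    obtain ⟨σ, hσ⟩ := MulAction.exists_smul_eq (alternatingGroup D) (⟨e, he⟩ : D) ⟨f, hf⟩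
    obtain ⟨b, hb, e1⟩ := hL σ.2
    refine ⟨b, hb, ?_⟩
    rw [← permOn_apply N D w.stab b ⟨e, he⟩, e1]
    exact congrArg Subtype.val hσ
  have hQ : Q ≤ N ⊓ ptStab G D := by
    refine (key h.isO.le h.isO.norm).resolve_right fun h1 => ?_
    have h2 := sol_of_le h1 (w.sol_top h.isO.le h.sol_Q)
    have h3 := IsSimpleGroup.comm_iff_isSolvable.2 h2
    refine hne ?_
    rw [← hperf, commutator_eq_bot_iff_le_centralizer]
    exact cm_iff.1 fun a ha b hb => congrArg Subtype.val (h3 ⟨a, ha⟩ ⟨b, hb⟩)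
  have one : ∀ {La Lb : Subgroup G}, Sit r N Q La Lb → La ≤ N ⊓ ptStab G D → alternatingGroup D ≤ w.top Lb → False := by
    intro La Lb h hLa hLb
    refine w.false_of_blocks h hLa fun e he => ?_
    have : Nontrivial D := Fintype.one_lt_card_iff_nontrivial.1 (by omega)
    obtain ⟨f, hf⟩ := exists_ne (⟨e, he⟩ : D)
    obtain ⟨b, hb, e1⟩ := mov hLb e he f f.2
    exact w.comm_block h hLa (disj h5) he hb fun e2 => hf (Subtype.ext (e1.symm.trans e2))
  rcases key h.La_le h.La_norm with hA | hA <;> rcases key h.Lb_le h.Lb_norm with hB | hB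
  · by_cases hc : ∃ e ∈ D, Cm ⁅W e, W e⁆
    · obtain ⟨e, he, hc⟩ := hc
      have h1 : ∀ f ∈ D, Cm ⁅W f, W f⁆ := fun f hf => by
        obtain ⟨b, hb, e1⟩ := mov alt f hf e he
        have h2 := w.conj' hb hf
        rw [e1] at h2
        intro x hx y hy
        have h3 := hc _ (h2 (conj_mem_cj hx b)) _ (h2 (conj_mem_cj hy b))
        apply (MulAut.conj b).injective
        rw [map_mul, map_mul]
        exact h3
      have h2 : (⨆ e ∈ D, ⁅W e, W e⁆) ≤ Q := h.le_of_comm (iSup₂_le w.le) w.norm_iSup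
        (iSup_ind (P := Cm) w.fin (fun _ he _ hf => w.comm' he hf) (cm_iff.2 bot_le) (fun _ _ => Cm.sup) h1)
      refine w.false_of_blocks h hA fun f hf => le_trans ?_ ((le_iSup₂_of_le f hf le_rfl).trans h2)
      exact commutator_le_right_of_norm (hA.trans (norm_commutator (w.base_norm hf) (w.base_norm hf)))
    · have h1 : P23 (N ⊓ ptStab G D) := P23.of_le w.base (iSup_ind (P := P23) w.fin w.comm
        (fun s hs hd => absurd (by simpa using hd) hs.ne_one) (fun _ _ => P23.sup)
        fun e he => (ha e he).resolve_left fun h2 => hc ⟨e, he, h2⟩)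
      obtain ⟨s, t, h2, h3, h4, h6, h7, h8, h9⟩ := h.primes
      have : Fact r.Prime := ⟨h.prime⟩
      have hr : r ∣ Nat.card Q := by
        rcases h.isO.pg.card_eq_or_dvd with e | e
        · exact absurd (card_eq_one.1 e) h.Q_ne
        · exact e
      have a1 := P23.of_le hA h1 s h2 h8
      have a2 := P23.of_le hB h1 t h3 h9
      have a3 := P23.of_le hQ h1 r h.prime hr
      omega
  · exact one h hA hB
  · exact one h.symm hB hA
  · refine hne ?_
    rw [← hperf, eq_bot_iff]
    refine (commutator_mono hA hB).trans ((w.top_comm h.La_le h.Lb_le).trans (w.top_base (h.comm.trans hQ)).le)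

end Wr

end wr

end Cfsg.Agent.T44.Cl
end

private theorem dce_011e889e508a : _root_.True := by
  try have : _root_.True := by simp only [_root_.Cfsg.Agent.T44.Cl.Wr.top.eq_1]
  exact _root_.True.intro
end

-- part: T44/Cl/Tr
section
set_option linter.all false
open scoped Cfsg.Agent.FastGrp

/-!
# S3544, classical groups: transport of the situation `Sit` (helper34)
-/

set_option autoImplicit false

namespace Cfsg.Agent.T44.Cl

open Cfsg Cfsg.Agent.T44 Subgroup

section map

variable {G G' : Type*} [Group G] [Group G'] {f : G →* G'} (hf : Function.Injective f)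
include hf

theorem norm_map_iff {A X : Subgroup G} :
    A.map f ≤ normalizer (X.map f : Set G') ↔ A ≤ normalizer (X : Set G) := by
  refine ⟨fun h => norm_of_conj fun a ha x hx => ?_, fun h => norm_of_conj ?_⟩
  · have h1 := conj_mem_of_norm h (mem_map_of_mem f ha) (mem_map_of_mem f hx)
    rwa [← map_inv, ← map_mul, ← map_mul, mem_map_iff_mem hf] at h1
  · rintro _ ⟨a, ha, rfl⟩ _ ⟨x, hx, rfl⟩
    exact ⟨_, conj_mem_of_norm h ha hx, by rw [map_mul, map_mul, map_inv]⟩

theorem mem_cent_map_iff {X : Subgroup G} {a : G} :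
    f a ∈ centralizer (X.map f : Set G') ↔ a ∈ centralizer (X : Set G) := by
  rw [mem_centralizer_iff, mem_centralizer_iff]
  refine ⟨fun h x hx => hf (by rw [map_mul, map_mul]; exact h _ ⟨x, hx, rfl⟩), ?_⟩
  rintro h _ ⟨x, hx, rfl⟩
  rw [← map_mul, ← map_mul, h x hx]

theorem cent_map {A X : Subgroup G} :
    A.map f ⊓ centralizer (X.map f : Set G') = (A ⊓ centralizer (X : Set G)).map f := by
  ext y
  constructor
  · rintro ⟨⟨a, ha, rfl⟩, h⟩
    exact ⟨a, ⟨ha, (mem_cent_map_iff hf).1 h⟩, rfl⟩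
  · rintro ⟨a, ⟨ha, h⟩, rfl⟩
    exact ⟨⟨a, ha, rfl⟩, (mem_cent_map_iff hf).2 h⟩

theorem pg_map_iff {r : ℕ} {X : Subgroup G} : IsPGroup r (X.map f) ↔ IsPGroup r X :=
  ⟨fun h => h.of_equiv (X.equivMapOfInjective f hf).symm, fun h => h.map f⟩

theorem isO_map_iff {r : ℕ} {Q M : Subgroup G} : IsO r (Q.map f) (M.map f) ↔ IsO r Q M := by
  refine ⟨fun h => ⟨(map_le_map_iff_of_injective hf).1 h.le, (pg_map_iff hf).1 h.pg, (norm_map_iff hf).1 h.norm,
    fun X h1 h2 h3 => (map_le_map_iff_of_injective hf).1 (h.max _ (map_mono h1) (h2.map f) ((norm_map_iff hf).2 h3))⟩,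
    fun h => ⟨map_mono h.le, h.pg.map f, (norm_map_iff hf).2 h.norm, fun X h1 h2 h3 => ?_⟩⟩
  have e : (X.comap f).map f = X := map_comap_eq_self (h1.trans (map_le_range _ _))
  rw [← e] at h1 h2 h3 ⊢
  exact map_mono (h.max _ ((map_le_map_iff_of_injective hf).1 h1) ((pg_map_iff hf).1 h2) ((norm_map_iff hf).1 h3))

theorem gen_map {r : ℕ} {L : Subgroup G} : Gen r (L.map f) = (Gen r L).map f := by
  rw [Gen, Gen, MonoidHom.map_closure]
  congr 1
  ext y
  constructor
  · rintro ⟨⟨x, hx, rfl⟩, k, hk⟩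
    exact ⟨x, ⟨hx, k, hf (by rw [map_pow, hk, map_one])⟩, rfl⟩
  · rintro ⟨x, ⟨hx, k, hk⟩, rfl⟩
    exact ⟨⟨x, hx, rfl⟩, k, by rw [← map_pow, hk, map_one]⟩

theorem ch_map_iff {r : ℕ} {N Q : Subgroup G} : Ch r (N.map f) (Q.map f) ↔ Ch r N Q := by
  refine ⟨fun h => ⟨h.prime, (isO_map_iff hf).1 h.isO, ?_⟩, fun h => ⟨h.prime, (isO_map_iff hf).2 h.isO, ?_⟩⟩
  · rw [← map_le_map_iff_of_injective hf, ← cent_map hf]
    exact h.cent
  · rw [cent_map hf]
    exact map_mono h.cent

theorem sit_map_iff {r : ℕ} {N Q La Lb : Subgroup G} :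
    Sit r (N.map f) (Q.map f) (La.map f) (Lb.map f) ↔ Sit r N Q La Lb := by
  have le : ∀ {A B : Subgroup G}, A.map f ≤ B.map f ↔ A ≤ B := map_le_map_iff_of_injective hf
  refine ⟨fun h => ⟨(ch_map_iff hf).1 h.toCh, fun e => h.Q_ne (by rw [e, Subgroup.map_bot]), le.1 h.La_le, le.1 h.Lb_le,
    (norm_map_iff hf).1 h.La_norm, (norm_map_iff hf).1 h.Lb_norm, le.1 (by rw [map_commutator]; exact h.comm),
    le.1 (by rw [← gen_map hf]; exact h.genA), le.1 (by rw [← gen_map hf]; exact h.genB),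
    fun e => h.not_La (le.2 e), fun e => h.not_Lb (le.2 e), ?_, fun e => h.nsol (sol_map f e)⟩,
    fun h => ⟨(ch_map_iff hf).2 h.toCh, fun e => h.Q_ne ((map_eq_bot_iff_of_injective _ hf).1 e), le.2 h.La_le,
    le.2 h.Lb_le, (norm_map_iff hf).2 h.La_norm, (norm_map_iff hf).2 h.Lb_norm,
    by rw [← map_commutator]; exact le.2 h.comm, by rw [gen_map hf]; exact le.2 h.genA,
    by rw [gen_map hf]; exact le.2 h.genB, fun e => h.not_La (le.1 e), fun e => h.not_Lb (le.1 e), ?_,
    fun e => h.nsol (sol_of_map_inj hf e)⟩⟩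
  · simpa only [card_map_of_injective hf] using h.primes
  · simpa only [card_map_of_injective hf] using h.primes

end map

theorem relIndex_dvd_card' {G : Type*} [Group G] (A B : Subgroup G) : A.relIndex B ∣ Nat.card B :=
  index_dvd_card (A.subgroupOf B)

variable {G : Type*} [Group G] [Finite G] {T H Q : Subgroup G} {r : ℕ} {Ya Yb : Set G} {da db : ℕ}

theorem sit_of_cfg (h : Cfg T H Q r Ya Yb da db) : Sit r (T ⊓ H) Q (Lg Q Ya) (Lg Q Yb) := by
  obtain ⟨s, t, h1, h2, h3, h4, h5, -, -, h6, h7⟩ := h.exists_primes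
  exact ⟨⟨h.prime, h.isO, h.cent⟩, h.Q_ne, h.La_le_M, h.Lb_le_M, h.M_norm_La, h.M_norm_Lb, h.comm_le, h.Gen_Lg.ge,
    h.symm.Gen_Lg.ge, h.not_La_le_Q, h.not_Lb_le_Q,
    ⟨s, t, h1, h2, h3, h4, h5, h6.trans (relIndex_dvd_card' _ _), h7.trans (relIndex_dvd_card' _ _)⟩, h.not_solvable⟩

/-- a prime `l ≥ 5` with `l² ∣ |M : Q|` -/
theorem exists_ell (h : Cfg T H Q r Ya Yb da db) :
    ∃ l : ℕ, l.Prime ∧ 5 ≤ l ∧ (l = r ∨ r ≤ 3) ∧ l ^ 2 ∣ Q.relIndex (T ⊓ H) := by
  have aux : ∀ {Ya Yb : Set G} {da db : ℕ}, Cfg T H Q r Ya Yb da db → ∀ t : ℕ, t.Prime → t ≠ r →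
      t ∣ Q.relIndex (Lg Q Yb) → t ^ 2 ∣ Q.relIndex (T ⊓ H) := by
    intro Ya Yb da db h t ht htr hd
    obtain ⟨y, hy⟩ := h.A.ne
    have h1 := (h.sq_dvd ht (hd.trans (relIndex_dvd_card' _ _)) hy).trans (card_dvd_of_le inf_le_left)
    rw [← card_mul_relIndex h.Q_le_M] at h1
    exact (((Nat.Prime.coprime_iff_not_dvd ht).2 (not_dvd_card_of_pg h.prime ht htr h.isO.pg)).pow_left 2).dvd_of_dvd_mul_left h1
  by_cases hr : r ≤ 3
  · obtain ⟨s, t, h1, h2, h3, h4, h5, -, -, h6, h7⟩ := h.exists_primes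
    have a1 := h1.two_le
    have a2 := h2.two_le
    have a3 := h.prime.two_le
    have a4 : s ≠ 4 := by rintro rfl; exact absurd h1 (by decide)
    have a5 : t ≠ 4 := by rintro rfl; exact absurd h2 (by decide)
    by_cases h8 : 5 ≤ t
    · exact ⟨t, h2, h8, Or.inr hr, aux h t h2 h5 h7⟩
    · exact ⟨s, h1, by omega, Or.inr hr, aux h.symm s h1 h4 h6⟩
  · have a4 : r ≠ 4 := by rintro rfl; exact absurd h.prime (by decide)
    exact ⟨r, h.prime, by omega, Or.inl rfl, (pow_dvd_pow r (by norm_num)).trans h.N0⟩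

end Cfsg.Agent.T44.Cl

private theorem dce_d15ec23becc5 : _root_.True := by
  try have : _root_.True := by simp only [_root_.Cfsg.Agent.T44.Gen.eq_1]
  exact _root_.True.intro
end
end
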